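import Groth.Agent.CurveDiv.FlatH0
import Groth.Agent.PicAux.PushPull

/-!
# Invertible modules which come from the base locally for a flat topology
-/

universe u

open CategoryTheory Limits AlgebraicGeometry Opposite TopologicalSpace
open scoped TensorProduct

namespace Groth.CurveDiv.DescGen

open Groth.PicAux (Gen res resX pullSec)
open Groth.QCohMod (sectionsAlg)
open Groth.CohBase.FlatBC (secMod psec)

variable {X S X' S' : Scheme.{u}} {f : X ⟶ S} {g : S' ⟶ S} {g' : X' ⟶ X} {f' : X' ⟶ S'}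

/-- `m` generates `L` near `x`. -/
def GenAt (L : X.Modules) {U : X.Opens} (m : Γ(L, U)) (x : X) : Prop :=
  ∃ W : X.Opens, x ∈ W ∧ ∃ h : W ≤ U, Gen L W (res L h m)

/-- Generation near a point is detected after inverse image. -/
theorem genAt_of_pullSec (h : X' ⟶ X) {L : X.Modules} (hL : PicF.IsInvertible L) {U : X.Opens}
    {m : Γ(L, U)} {x' : X'}
    (hx : GenAt ((Scheme.Modules.pullback h).obj L) (pullSec h L m) x') : GenAt L m (h x') := by
  obtain ⟨W', hx', hW', hg⟩ := hx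
  obtain ⟨U₁, e, hxU₁, he⟩ := (Groth.PicAux.isInvertible_iff_exists_gen L).1 hL (h x')
  let U₂ := U ⊓ U₁
  obtain ⟨r, hr⟩ := (he.res (inf_le_right : U₂ ≤ U₁)).exists_coeff le_rfl
    (res L (inf_le_left : U₂ ≤ U) m)
  rw [Groth.PicAux.res_self] at hr
  let W₂ := W' ⊓ h ⁻¹ᵁ U₂
  have hxU₂ : x' ∈ h ⁻¹ᵁ U₂ := ⟨hW' hx', hxU₁⟩
  have h1 : res _ (inf_le_right : W₂ ≤ h ⁻¹ᵁ U₂) (pullSec h L (res L (inf_le_left : U₂ ≤ U) m)) =
      resX X' (inf_le_right : W₂ ≤ h ⁻¹ᵁ U₂) (h.app U₂ r) •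
        res _ (inf_le_right : W₂ ≤ h ⁻¹ᵁ U₂) (pullSec h L (res L (inf_le_right : U₂ ≤ U₁) e)) := by
    rw [hr, Groth.PicAux.pullSec_smul, Groth.PicAux.res_smul]
  have h2 := hg.res (inf_le_left : W₂ ≤ W')
  rw [Groth.PicAux.res_res] at h2
  rw [← Groth.PicAux.res_pullSec h L (inf_le_left : U₂ ≤ U), Groth.PicAux.res_res] at h1
  rw [h1] at h2
  have hu := Gen.isUnit_of_smul (((he.res _).pull h).res _) h2
  have h3 : x' ∈ X'.basicOpen (h.app U₂ r) :=
    (X'.mem_basicOpen (h.app U₂ r) x' hxU₂).2 (by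
      have := hu.map (X'.presheaf.germ W₂ x' ⟨hx', hxU₂⟩).hom
      rwa [Groth.PicAux.resX, ← CommRingCat.comp_apply, TopCat.Presheaf.germ_res] at this)
  rw [← Scheme.preimage_basicOpen] at h3
  refine ⟨X.basicOpen r, h3, (X.basicOpen_le r).trans inf_le_left, ?_⟩
  have h4 := congrArg (res L (X.basicOpen_le r)) hr
  rw [Groth.PicAux.res_res, Groth.PicAux.res_smul] at h4
  rw [h4]
  exact ((he.res _).res _).smul_unit (RingedSpace.isUnit_res_basicOpen _ r)

/-- Trivialising data near a point of the covering. -/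
theorem exists_coeff_equiv (sq : IsPullback g' f' f g) [QuasiCompact f] [QuasiSeparated f]
    [Flat g] (hf : ∀ U : S.Opens, Function.Bijective (f.app U))
    {L : X.Modules} (hL : PicF.IsInvertible L) {N' : S'.Modules} (hN' : PicF.IsInvertible N')
    (a : (Scheme.Modules.pullback g').obj L ≅ (Scheme.Modules.pullback f').obj N')
    {V : S.Opens} (hV : IsAffineOpen V) (s' : S') (hs' : g s' ∈ V) :
    ∃ (V' : S'.Opens) (e : V' ≤ g ⁻¹ᵁ V), s' ∈ V' ∧
      letI := sectionsAlg g e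
      Module.Flat Γ(S, V) Γ(S', V') ∧
      ∃ (c : secMod f L (le_refl (f ⁻¹ᵁ V)) → Γ(S', V'))
        (κ : Γ(S', V') ⊗[Γ(S, V)] secMod f L (le_refl (f ⁻¹ᵁ V)) ≃+ Γ(S', V')),
        (∀ b m, κ (b ⊗ₜ m) = b * c m) ∧
        ∀ (x' : X') (m : secMod f L (le_refl (f ⁻¹ᵁ V))), f' x' ∈ S'.basicOpen (c m) →
          GenAt L (show Γ(L, f ⁻¹ᵁ V) from m) (g' x') := by
  obtain ⟨U₁, e', hs₁, he'⟩ := (Groth.PicAux.isInvertible_iff_exists_gen N').1 hN' s'
  obtain ⟨V', hV', hsV', hle⟩ := exists_isAffineOpen_mem_and_subset (X := S') (x := s')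
    (U := U₁ ⊓ g ⁻¹ᵁ V) ⟨hs₁, hs'⟩
  have e : V' ≤ g ⁻¹ᵁ V := fun z hz => (hle hz).2
  have eU₁ : V' ≤ U₁ := fun z hz => (hle hz).1
  have e₁ : f' ⁻¹ᵁ V' ≤ g' ⁻¹ᵁ (f ⁻¹ᵁ V) := fun z hz => by
    have h : f (g' z) = g (f' z) := by rw [← Scheme.Hom.comp_apply, sq.w, Scheme.Hom.comp_apply]
    change f (g' z) ∈ V
    rw [h]
    exact e hz
  let := sectionsAlg g e
  refine ⟨V', e, hsV', Flat.flat_appLE g hV hV' e, ?_⟩
  let ε := a.inv.app (f' ⁻¹ᵁ V') (pullSec f' N' (res N' eU₁ e'))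
  have hε : Gen ((Scheme.Modules.pullback g').obj L) (f' ⁻¹ᵁ V') ε :=
    ((he'.res eU₁).pull f').map a.inv
  have := Groth.PicAux.isQCoh_of_isInvertible hL
  obtain ⟨Φ, hΦ⟩ := FlatH0.exists_baseChange_equiv sq L hV hV' e e₁
  have happ : Function.Bijective (f'.app V') := by
    have := Groth.PicAux.isQCoh_structureModule X
    obtain ⟨Ψ, hΨ⟩ := FlatH0.exists_baseChange_equiv sq (Coh.structureModule X) hV hV' e e₁
    let j : Γ(S, V) →ₗ[Γ(S, V)] secMod f (Coh.structureModule X) (le_refl (f ⁻¹ᵁ V)) :=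
      LinearMap.toSpanSingleton _ _ (Groth.PicAux.oneSec X (f ⁻¹ᵁ V))
    have hj : Function.Bijective j := by
      have : (j : Γ(S, V) → _) = fun r => (f.app V r : Γ(X, f ⁻¹ᵁ V)) := by
        funext r
        refine (congrArg Groth.PicAux.toFun (rfl : j r = _)).trans ?_
        change f.appLE V (f ⁻¹ᵁ V) le_rfl r * 1 = _
        rw [mul_one, Scheme.Hom.appLE_eq_app]
      rw [this]
      exact hf V
    let j' := (TensorProduct.rid Γ(S, V) Γ(S', V')).symm.toAddEquiv.trans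
      ((TensorProduct.congr (LinearEquiv.refl Γ(S, V) Γ(S', V'))
        (LinearEquiv.ofBijective j hj)).toAddEquiv.trans Ψ)
    have := Groth.PicAux.isIso_pullUnit g'
    have hu : Function.Bijective ((Groth.PicAux.pullUnit g').app (f' ⁻¹ᵁ V')) :=
      ⟨Function.LeftInverse.injective (g := (inv (Groth.PicAux.pullUnit g')).app _) fun z =>
          congr(($(IsIso.hom_inv_id (Groth.PicAux.pullUnit g'))).app (f' ⁻¹ᵁ V') z),
        Function.RightInverse.surjective (g := (inv (Groth.PicAux.pullUnit g')).app _) fun z =>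
          congr(($(IsIso.inv_hom_id (Groth.PicAux.pullUnit g'))).app (f' ⁻¹ᵁ V') z)⟩
    have hb : Function.Bijective (fun b => Groth.PicAux.toFun
        ((Groth.PicAux.pullUnit g').app (f' ⁻¹ᵁ V') (j' b))) := hu.comp j'.bijective
    convert hb using 1
    funext b
    change f'.app V' b = Groth.PicAux.toFun ((Groth.PicAux.pullUnit g').app (f' ⁻¹ᵁ V')
      (Ψ (b ⊗ₜ j 1)))
    rw [hΨ, Scheme.Modules.Hom.app_smul, LinearMap.toSpanSingleton_apply_one,
      FlatH0.oneSec_pullUnit, Groth.PicAux.toFun_smul, Groth.PicAux.toFun_oneSec, mul_one]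
  have hψ : Function.Bijective fun b : Γ(S', V') => f'.app V' b • ε := by
    have h1 := hε _ le_rfl
    simp only [Groth.PicAux.res_self] at h1
    exact h1.comp happ
  let ψ : Γ(S', V') ≃+ Γ((Scheme.Modules.pullback g').obj L, f' ⁻¹ᵁ V') :=
    AddEquiv.ofBijective (AddMonoidHom.mk' (fun b => f'.app V' b • ε) fun p q => by
      rw [map_add, add_smul]) hψ
  let κ := Φ.trans ψ.symm
  have key : ∀ b m, κ (b ⊗ₜ m) = b * κ (1 ⊗ₜ m) := by
    intro b m
    refine ψ.injective ?_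
    change ψ (ψ.symm (Φ _)) = f'.app V' (b * _) • ε
    rw [AddEquiv.apply_symm_apply, map_mul, mul_smul, hΦ]
    congr 1
    change _ = ψ (ψ.symm (Φ _))
    rw [AddEquiv.apply_symm_apply, hΦ, map_one, one_smul]
  refine ⟨fun m => κ (1 ⊗ₜ m), κ, key, fun x' m hx => ?_⟩
  refine genAt_of_pullSec g' hL ?_
  have hm : f'.app V' (κ (1 ⊗ₜ m)) • ε = psec g' L e₁ (show Γ(L, f ⁻¹ᵁ V) from m) := by
    change ψ (ψ.symm (Φ _)) = _
    rw [AddEquiv.apply_symm_apply, hΦ, map_one, one_smul]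
  refine ⟨X'.basicOpen (f'.app V' (κ (1 ⊗ₜ m))), ?_, (X'.basicOpen_le _).trans e₁, ?_⟩
  · rw [← Scheme.preimage_basicOpen]
    exact hx
  · rw [Groth.CohBase.FlatBC.psec_apply] at hm
    have h4 := congrArg (res _ (X'.basicOpen_le (f'.app V' (κ (1 ⊗ₜ m))))) hm
    rw [Groth.PicAux.res_smul] at h4
    erw [Groth.PicAux.res_res] at h4
    rw [← h4]
    exact (hε.res _).smul_unit (RingedSpace.isUnit_res_basicOpen _ _)

/-- A tensor whose image is a unit near `s` has a term which is. -/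
theorem exists_mem_basicOpen {A : Type u} [CommRing A] {M : Type u} [AddCommGroup M] [Module A M]
    {V' : S'.Opens} [Algebra A Γ(S', V')] {s : S'} (hs : s ∈ V') (c : M → Γ(S', V'))
    (κ : Γ(S', V') ⊗[A] M →+ Γ(S', V')) (hκ : ∀ b m, κ (b ⊗ₜ m) = b * c m)
    (z : Γ(S', V') ⊗[A] M) (hz : s ∈ S'.basicOpen (κ z)) : ∃ m, s ∈ S'.basicOpen (c m) := by
  induction z using TensorProduct.induction_on with
  | zero =>
    rw [map_zero, Scheme.basicOpen_zero] at hz
    exact hz.elim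
  | tmul b m =>
    rw [hκ, Scheme.basicOpen_mul] at hz
    exact ⟨m, hz.2⟩
  | add p q hp hq =>
    rw [map_add, S'.mem_basicOpen _ s hs, map_add] at hz
    exact (IsLocalRing.isUnit_or_isUnit_of_isUnit_add hz).elim
      (fun h => hp ((S'.mem_basicOpen _ s hs).2 h)) fun h => hq ((S'.mem_basicOpen _ s hs).2 h)

/-- Two sections are proportional, up to a function nonzero at the point. -/
theorem exists_relation {A : Type u} [CommRing A] {M : Type u} [AddCommGroup M] [Module A M]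
    {V' : S'.Opens} [Algebra A Γ(S', V')] [Module.Flat A Γ(S', V')] {s : S'} (hs : s ∈ V')
    (c : M → Γ(S', V')) (κ : Γ(S', V') ⊗[A] M ≃+ Γ(S', V'))
    (hκ : ∀ b m, κ (b ⊗ₜ m) = b * c m) (m x : M) (hm : s ∈ S'.basicOpen (c m)) :
    ∃ a a' : A, s ∈ S'.basicOpen (algebraMap A Γ(S', V') a) ∧ a • x = a' • m := by
  let θ : A × A →ₗ[A] M := (LinearMap.toSpanSingleton A M x).coprod (-LinearMap.toSpanSingleton A M m)
  let t : Γ(S', V') ⊗[A] (A × A) := c m ⊗ₜ ((1, 0) : A × A) + c x ⊗ₜ ((0, 1) : A × A)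
  have ht : θ.lTensor _ t = 0 := by
    refine κ.injective ?_
    simp [t, θ, hκ, TensorProduct.tmul_neg, mul_comm]
  obtain ⟨z, hz⟩ := (Module.Flat.lTensor_exact Γ(S', V') θ.exact_subtype_ker_map t).1 ht
  let p : Γ(S', V') ⊗[A] LinearMap.ker θ →+ Γ(S', V') :=
    ((TensorProduct.rid A Γ(S', V')).toLinearMap ∘ₗ
      ((LinearMap.fst A A A ∘ₗ (LinearMap.ker θ).subtype).lTensor _)).toAddMonoidHom
  have hp : ∀ b k, p (b ⊗ₜ k) = b * algebraMap A Γ(S', V') k.1.1 := fun b k => by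
    simp [p, Algebra.smul_def, mul_comm]
  have hpz : p z = c m := by
    change TensorProduct.rid A Γ(S', V') ((LinearMap.fst A A A ∘ₗ _).lTensor _ z) = _
    rw [LinearMap.lTensor_comp_apply, hz]
    simp [t]
  obtain ⟨⟨⟨a, a'⟩, hk⟩, ha⟩ := exists_mem_basicOpen hs
    (fun k : LinearMap.ker θ => algebraMap A Γ(S', V') k.1.1) p hp z (hpz.symm ▸ hm)
  refine ⟨a, a', ha, ?_⟩
  simpa [θ, ← sub_eq_add_neg, sub_eq_zero] using hk

/-- Descent of generators along jointly surjective flat base changes. -/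
theorem exists_gen_of_flat_family [QuasiCompact f] [QuasiSeparated f]
    (hf : ∀ U : S.Opens, Function.Bijective (f.app U)) {L : X.Modules} (hL : PicF.IsInvertible L)
    (hcov : ∀ s : S, ∃ (S' X' : Scheme.{u}) (g : S' ⟶ S) (g' : X' ⟶ X) (f' : X' ⟶ S'),
      IsPullback g' f' f g ∧ Flat g ∧ (∃ s', g s' = s) ∧
        ∃ N' : S'.Modules, PicF.IsInvertible N' ∧
          Nonempty ((Scheme.Modules.pullback g').obj L ≅ (Scheme.Modules.pullback f').obj N'))
    (s : S) : ∃ U : S.Opens, s ∈ U ∧ ∃ e : Γ(L, f ⁻¹ᵁ U), Gen L (f ⁻¹ᵁ U) e := by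
  obtain ⟨V, hV, hsV, -⟩ := exists_isAffineOpen_mem_and_subset (X := S) (x := s)
    (U := (⊤ : S.Opens)) trivial
  have hpt : ∀ x : X, x ∈ f ⁻¹ᵁ V → ∃ m : Γ(L, f ⁻¹ᵁ V), GenAt L m x := by
    intro x hx
    obtain ⟨S', X', g, g', f', sq, hg, ⟨s', hs'⟩, N', hN', ⟨a⟩⟩ := hcov (f x)
    obtain ⟨V', e, hsV', -, c, κ, hκ, hgen⟩ :=
      exists_coeff_equiv sq hf hL hN' a hV s' (hs' ▸ hx : g s' ∈ V)
    let := sectionsAlg g e
    obtain ⟨m, hm⟩ := exists_mem_basicOpen hsV' c κ.toAddMonoidHom hκ (κ.symm 1) (by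
      rw [AddEquiv.coe_toAddMonoidHom, AddEquiv.apply_symm_apply, Scheme.basicOpen_of_isUnit _
        isUnit_one]
      exact hsV')
    obtain ⟨z, hz₁, hz₂⟩ := Scheme.Pullback.exists_preimage_pullback x s' hs'.symm
    refine ⟨m, ?_⟩
    have h₁ : g' (sq.isoPullback.inv z) = x := by
      rw [← Scheme.Hom.comp_apply, sq.isoPullback_inv_fst, hz₁]
    have h₂ : f' (sq.isoPullback.inv z) = s' := by
      rw [← Scheme.Hom.comp_apply, sq.isoPullback_inv_snd, hz₂]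
    exact h₁ ▸ hgen _ m (h₂.symm ▸ hm)
  choose m hm using hpt
  choose W hxW hW hgenW using hm
  obtain ⟨F, hF⟩ := (QuasiCompact.isCompact_preimage _ V.2 hV.isCompact :
    IsCompact ((f ⁻¹ᵁ V : X.Opens) : Set X)).elim_finite_subcover
    (fun i : {x // x ∈ f ⁻¹ᵁ V} => ((W i.1 i.2 : X.Opens) : Set X)) (fun i => (W i.1 i.2).2)
    fun x hx => Set.mem_iUnion.2 ⟨⟨x, hx⟩, hxW x hx⟩
  obtain ⟨S', X', g, g', f', sq, hg, ⟨s', hs'⟩, N', hN', ⟨a⟩⟩ := hcov s
  obtain ⟨V', e, hsV', hflat, c, κ, hκ, hgen⟩ :=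
    exists_coeff_equiv sq hf hL hN' a hV s' (hs' ▸ hsV : g s' ∈ V)
  let := sectionsAlg g e
  obtain ⟨m₀, hm₀⟩ := exists_mem_basicOpen hsV' c κ.toAddMonoidHom hκ (κ.symm 1) (by
    rw [AddEquiv.coe_toAddMonoidHom, AddEquiv.apply_symm_apply, Scheme.basicOpen_of_isUnit _
      isUnit_one]
    exact hsV')
  have hrel : ∀ i : {x // x ∈ f ⁻¹ᵁ V}, ∃ a a' : Γ(S, V), s ∈ S.basicOpen a ∧
      f.app V a • m i.1 i.2 = f.app V a' • (show Γ(L, f ⁻¹ᵁ V) from m₀) := by
    intro i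
    obtain ⟨a, a', ha, heq⟩ := exists_relation hsV' c κ hκ m₀
      (show secMod f L (le_refl (f ⁻¹ᵁ V)) from m i.1 i.2) hm₀
    refine ⟨a, a', ?_, ?_⟩
    · have h : S'.basicOpen (g.appLE V V' e a) ≤ g ⁻¹ᵁ S.basicOpen a := by
        rw [Scheme.Hom.appLE, CommRingCat.comp_apply, Scheme.basicOpen_res,
          Scheme.preimage_basicOpen]
        exact inf_le_right
      exact hs' ▸ h ha
    · simpa only [Scheme.Hom.appLE_eq_app] using
        (show (f.appLE V (f ⁻¹ᵁ V) le_rfl a • m i.1 i.2 : Γ(L, f ⁻¹ᵁ V)) =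
          f.appLE V (f ⁻¹ᵁ V) le_rfl a' • (show Γ(L, f ⁻¹ᵁ V) from m₀) from heq)
  choose b b' hb hbb using hrel
  let U : S.Opens := V ⊓ F.inf fun i => S.basicOpen (b i)
  refine ⟨U, ⟨hsV, ?_⟩, res L (f.preimage_mono inf_le_left) (show Γ(L, f ⁻¹ᵁ V) from m₀), ?_⟩
  · change s ∈ ((F.inf fun i => S.basicOpen (b i) : S.Opens) : Set S)
    rw [Opens.coe_finset_inf]
    simp only [Finset.inf_set_eq_iInter, Function.comp_apply, Set.mem_iInter]
    exact fun i _ => hb i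
  refine Gen.of_cover (fun i : F => W i.1.1 i.1.2 ⊓ f ⁻¹ᵁ U) (fun _ => inf_le_right)
    (fun x hx => ?_) fun i => ?_
  · obtain ⟨i, hi, hxi⟩ := Set.mem_iUnion₂.1 (hF (f.preimage_mono inf_le_left hx))
    exact Opens.mem_iSup.2 ⟨⟨i, hi⟩, hxi, hx⟩
  rw [Groth.PicAux.res_res]
  have hle : W i.1.1 i.1.2 ⊓ f ⁻¹ᵁ U ≤ f ⁻¹ᵁ V :=
    inf_le_right.trans (f.preimage_mono inf_le_left)
  have hu : IsUnit (resX X hle (f.app V (b i.1))) := by
    have hle2 : W i.1.1 i.1.2 ⊓ f ⁻¹ᵁ U ≤ X.basicOpen (f.app V (b i.1)) := by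
      rw [← Scheme.preimage_basicOpen]
      exact inf_le_right.trans (f.preimage_mono (inf_le_right.trans (Finset.inf_le i.2)))
    have := (RingedSpace.isUnit_res_basicOpen _ (f.app V (b i.1))).map (resX X hle2)
    erw [Groth.PicAux.resX_resX] at this
    exact this
  have hi : Gen L _ (res L hle (m i.1.1 i.1.2)) := by
    have := (hgenW i.1.1 i.1.2).res (inf_le_left : W i.1.1 i.1.2 ⊓ f ⁻¹ᵁ U ≤ _)
    rwa [Groth.PicAux.res_res] at this
  obtain ⟨r, hr⟩ := hi.exists_coeff le_rfl (res L hle (show Γ(L, f ⁻¹ᵁ V) from m₀))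
  rw [Groth.PicAux.res_self] at hr
  have h := congrArg (res L hle) (hbb i.1)
  rw [Groth.PicAux.res_smul, Groth.PicAux.res_smul, hr, smul_smul] at h
  have hru : IsUnit r := by
    have := hi.smul_inj le_rfl (by simpa only [Groth.PicAux.res_self] using h)
    exact isUnit_of_mul_isUnit_right (this ▸ hu)
  rw [hr]
  exact hi.smul_unit hru

/-- An invertible module which comes from the base locally for a flat topology comes from the base. -/
theorem exists_iso_pullback [QuasiCompact f] [QuasiSeparated f]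
    (hf : ∀ U : S.Opens, Function.Bijective (f.app U)) {L : X.Modules} (hL : PicF.IsInvertible L)
    (hcov : ∀ s : S, ∃ (S' X' : Scheme.{u}) (g : S' ⟶ S) (g' : X' ⟶ X) (f' : X' ⟶ S'),
      IsPullback g' f' f g ∧ Flat g ∧ (∃ s', g s' = s) ∧
        ∃ N' : S'.Modules, PicF.IsInvertible N' ∧
          Nonempty ((Scheme.Modules.pullback g').obj L ≅ (Scheme.Modules.pullback f').obj N')) :
    ∃ N : S.Modules, PicF.IsInvertible N ∧ Nonempty (L ≅ (Scheme.Modules.pullback f).obj N) := by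
  choose U hs e he using exists_gen_of_flat_family hf hL hcov
  obtain ⟨hN, hiso⟩ := Groth.PicAux.pushforward_invertible_and_counit f hf U
    (eq_top_iff.2 fun s _ => Opens.mem_iSup.2 ⟨s, hs s⟩) e he
  exact ⟨_, hN, ⟨(asIso ((Scheme.Modules.pullbackPushforwardAdjunction f).counit.app L)).symm⟩⟩

end Groth.CurveDiv.DescGen
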