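import Groth.Agent.CurveDiv.HilbSmooth
import Groth.Agent.HilbPts.GlueRep
import Groth.Agent.VarietyBC.CurveProj
import Groth.Agent.Pi1Ample.FiniteAffine
import Groth.Agent.VarietyBC.Dim
import Groth.Agent.AlgSp3.DimFacts
import Groth.Agent.DescentBase.DimEtale
import Groth.Agent.FibreDim.Smooth
import Groth.Agent.FibreDim.DimStalk
import Groth.Prelude.Def_Curve

/-!
# The scheme of points of a proper smooth curve over a field is proper (helper78)
-/

set_option autoImplicit false
set_option linter.style.haveILetI false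

universe u

open CategoryTheory CategoryTheory.Limits AlgebraicGeometry

namespace Groth.CurveDiv

open Groth.HilbPts

theorem universallyClosed_of_isUniversal {X S : Scheme.{u}} (f : X ⟶ S)
    [SmoothOfRelativeDimension 1 f] [IsSeparated f] [UniversallyClosed f]
    (hrep : ∀ e : ℕ, HilbD.Representable f e) :
    ∀ (d : ℕ) (H : Over S) (Z : HilbD.Obj f d H), HilbD.IsUniversal f d H Z →
      UniversallyClosed H.hom := by
  intro d
  induction d with
  | zero =>
    intro H Z hZ
    haveI := isIso_of_isUniversal_zero f hZ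
    infer_instance
  | succ d ih =>
    intro H' Z' hZ'
    obtain ⟨H, Z, hZ⟩ := hrep d
    haveI := ih H Z hZ
    obtain ⟨m, hm, -, hs⟩ := exists_addPoint f hZ hZ'
    haveI : UniversallyClosed (m ≫ H'.hom) := by rw [hm]; infer_instance
    exact UniversallyClosed.of_comp_surjective m H'.hom

theorem localDim_spec_field (k : Type u) [Field k] (y : Spec (CommRingCat.of k)) :
    FlatMor.localDim (Spec (CommRingCat.of k)) y = 0 := by
  refine le_antisymm ((Groth.SpectralTopology.localDim_le_dim y).trans ?_)
    (Groth.SpectralTopology.localDim_nonneg y)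
  exact le_of_eq ((PrimeSpectrum.topologicalKrullDim_eq_ringKrullDim k).trans
    (ringKrullDim_eq_zero_of_field k))

theorem smoothOfRelativeDimension_one_of_curve {k : Type u} [Field k] {X : Scheme.{u}}
    (f : X ⟶ Spec (CommRingCat.of k)) [Smooth f] [IrreducibleSpace X]
    (hdim : topologicalKrullDim X = 1) : SmoothOfRelativeDimension 1 f := by
  let : X.Over (Spec (CommRingCat.of k)) := ⟨f⟩
  haveI hsm : Smooth (X ↘ Spec (CommRingCat.of k)) := inferInstanceAs (Smooth f)
  have hloc : ∀ x : X, FlatMor.localDim X x = 1 := fun x => by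
    refine le_antisymm ((Groth.SpectralTopology.localDim_le_dim x).trans hdim.le) ?_
    rw [Groth.VarietyBC.localDim_eq_height_add k x, ringKrullDim_stalk_eq_coheight,
      ← WithBot.coe_add, ← hdim, Groth.Variety2.Dim.dim_eq_iSup_height]
    refine iSup_le fun z => WithBot.coe_le_coe.2 ?_
    refine le_trans (Order.height_mono ?_) (Groth.VarietyBC.height_le_add_coheight k (b := x) (η := genericPoint X) ?_)
    · exact Scheme.le_iff_specializes.2 (genericPoint_specializes z)
    · exact Scheme.le_iff_specializes.2 (genericPoint_specializes x)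
  have hcov : ∀ x : X, ∃ W : X.Opens, x ∈ W ∧ SmoothOfRelativeDimension 1 (W.ι ≫ f) := fun x => by
    obtain ⟨n, W, hxW, hn⟩ := Groth.AlgSp3.exists_open_smoothOfRelativeDimension f x
    haveI := SmoothOfRelativeDimension.smooth n (W.ι ≫ f)
    have e := Groth.FibreDim.localDim_eq_add_of_flat (W.ι ≫ f) n
      (Groth.FibreDim.fibreDimAt_eq_of_smoothOfRelativeDimension n (W.ι ≫ f)) ⟨x, hxW⟩
    rw [Groth.DescentBase.localDim_eq_of_etale W.ι, hloc, localDim_spec_field, zero_add] at e
    obtain rfl : n = 1 := by exact_mod_cast e.symm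
    exact ⟨W, hxW, hn⟩
  choose W hW hs using hcov
  exact IsZariskiLocalAtSource.of_iSup_eq_top (P := @SmoothOfRelativeDimension 1) W
    (eq_top_iff.2 fun x _ => TopologicalSpace.Opens.mem_iSup.2 ⟨x, hW x⟩) hs

theorem exists_proper_smooth (k : Type u) [Field k] (X : Scheme.{u})
    (f : X ⟶ Spec (CommRingCat.of k)) (hX : Curve.IsSmoothProperCurve k X f) (d : ℕ) :
    ∃ (H : Over (Spec (CommRingCat.of k))) (Z : HilbD.Obj f d H),
      HilbD.IsUniversal f d H Z ∧ IsProper H.hom ∧ Smooth H.hom := by
  obtain ⟨hp, hs, hi, hdim⟩ := hX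
  haveI := smoothOfRelativeDimension_one_of_curve f hdim
  haveI : IsLocallyNoetherian X := LocallyOfFiniteType.isLocallyNoetherian f
  haveI : CompactSpace X := QuasiCompact.compactSpace_of_compactSpace f
  haveI : IsNoetherian X := { }
  haveI : X.IsSeparated := ⟨by
    rw [← terminal.comp_from f]
    infer_instance⟩
  obtain ⟨L, hL⟩ := Groth.VarietyBC.CurveProj.exists_ample X hdim.le
  have hrep : ∀ e : ℕ, HilbD.Representable f e := fun e =>
    representable_of_points_in_affine fun _ x _ => by
      obtain ⟨U, hU, hx⟩ := Groth.PropsBasic.Ample.exists_affine_finite hL (Set.range x)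
        (Set.finite_range x)
      exact ⟨U, hU, fun i => hx ⟨i, rfl⟩⟩
  obtain ⟨H, Z, hZ⟩ := hrep d
  haveI := universallyClosed_of_isUniversal f hrep d H Z hZ
  haveI := smooth_of_isUniversal f hrep d H Z hZ
  haveI := Groth.HilbPts.isSeparated_of_isUniversal hZ
  exact ⟨H, Z, hZ, { }, inferInstance⟩

end Groth.CurveDiv
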