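import Groth.Agent.PnCoh.CechClass
import Groth.Agent.PicAux.ThickInj
import Mathlib.AlgebraicGeometry.Morphisms.Separated

/-!
# Lifting invertible modules along a first order thickening when `H²(I) = 0`
-/

universe u

open CategoryTheory AlgebraicGeometry TopologicalSpace Opposite

noncomputable section

namespace Groth.CurveDiv.ThickLift

open Groth.PicAux (Gen res resX pullSec)
open Groth.CohBase (inter inter_le inter_cons inter_one Coch dCoch)
open Groth.PnCoh (IsAcyclicCover cohClass)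

variable {X : Scheme.{u}}

theorem isAffineOpen_inter [X.IsSeparated] {ι : Type u} (U : ι → X.Opens)
    (hU : ∀ i, IsAffineOpen (U i)) :
    ∀ {n : ℕ} (x : Fin (n + 1) → ι), IsAffineOpen (inter (X := X.toTopCat) U x) := by
  intro n
  induction n with
  | zero => exact fun x => by rw [inter_one]; exact hU _
  | succ n ih =>
    intro x
    rw [← Fin.cons_self_tail x, inter_cons]
    exact (hU _).inf (ih _)

/-- A two-cocycle of a quasi-coherent module without second cohomology is a coboundary. -/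
theorem exists_split_two [X.IsSeparated] (M : X.Modules) [M.IsQuasicoherent]
    (h : Subsingleton (Coh.HH X M 2)) {ι : Type u} (U : ι → X.Opens)
    (hU : ∀ i, IsAffineOpen (U i)) (hcov : iSup U = ⊤)
    (g : ∀ i j k, Γ(M, U i ⊓ U j ⊓ U k))
    (hg : ∀ (a b c d : ι) (W : X.Opens) (h₁ : W ≤ U b ⊓ U c ⊓ U d) (h₂ : W ≤ U a ⊓ U c ⊓ U d)
      (h₃ : W ≤ U a ⊓ U b ⊓ U d) (h₄ : W ≤ U a ⊓ U b ⊓ U c),
      res M h₁ (g b c d) + res M h₃ (g a b d) = res M h₂ (g a c d) + res M h₄ (g a b c)) :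
    ∃ t : ∀ i j, Γ(M, U i ⊓ U j), ∀ i j k,
      g i j k + res M (inf_le_inf_right (U k) inf_le_left : U i ⊓ U j ⊓ U k ≤ U i ⊓ U k) (t i k) =
        res M (inf_le_left : U i ⊓ U j ⊓ U k ≤ U i ⊓ U j) (t i j) +
        res M (inf_le_inf_right (U k) inf_le_right : U i ⊓ U j ⊓ U k ≤ U j ⊓ U k) (t j k) := by
  have hA : IsAcyclicCover U := ⟨hcov, fun x => isAffineOpen_inter U hU x⟩
  have h3 : ∀ x : Fin 3 → ι,
      inter (X := X.toTopCat) U x ≤ U (x 0) ⊓ U (x 1) ⊓ U (x 2) := fun x =>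
    le_inf (le_inf (inter_le (X := X.toTopCat) U x 0) (inter_le (X := X.toTopCat) U x 1))
      (inter_le (X := X.toTopCat) U x 2)
  let s : Coch (X := X.toTopCat) U (Coh.toAb M).obj 2 := fun x =>
    CohBase.res _ (h3 x) (g (x 0) (x 1) (x 2))
  have hs : dCoch (X := X.toTopCat) U (Coh.toAb M).obj 2 s = 0 := by
    funext x
    rw [Groth.CohBase.dCoch_apply, Fin.sum_univ_four]
    have h4 : ∀ a b c : Fin 4,
        inter (X := X.toTopCat) U x ≤ U (x a) ⊓ U (x b) ⊓ U (x c) := fun a b c =>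
      le_inf (le_inf (inter_le (X := X.toTopCat) U x a) (inter_le (X := X.toTopCat) U x b))
        (inter_le (X := X.toTopCat) U x c)
    have h := hg (x 0) (x 1) (x 2) (x 3) _ (h4 1 2 3) (h4 0 2 3) (h4 0 1 3) (h4 0 1 2)
    simp only [Fin.val_zero, Fin.val_one, Fin.val_two, pow_zero, pow_one, one_smul, neg_smul,
      neg_one_sq, s, CohBase.res_res, Pi.zero_apply]
    rw [show ((3 : Fin 4) : ℕ) = 3 from rfl, show ((-1 : ℤ) ^ 3) = -1 by norm_num, neg_smul, one_smul]
    change res M (h4 1 2 3) (g (x 1) (x 2) (x 3)) + -res M (h4 0 2 3) (g (x 0) (x 2) (x 3)) +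
      res M (h4 0 1 3) (g (x 0) (x 1) (x 3)) + -res M (h4 0 1 2) (g (x 0) (x 1) (x 2)) = 0
    linear_combination (norm := abel) h
  obtain ⟨T, hT⟩ := (Groth.PnCoh.cohClass_eq_zero_iff hA M 1 ⟨s, hs⟩).1
    (@Subsingleton.elim _ h _ _)
  have h2 : ∀ i j, U i ⊓ U j ≤ inter (X := X.toTopCat) U ![i, j] := fun i j => by
    rw [show (![i, j] : Fin 2 → ι) = Fin.cons i ![j] from rfl, inter_cons, inter_one]
    exact le_rfl
  refine ⟨fun i j => CohBase.res (Coh.toAb M).obj (h2 i j) (T ![i, j]), fun i j k => ?_⟩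
  have h33 : U i ⊓ U j ⊓ U k ≤ inter (X := X.toTopCat) U ![i, j, k] := by
    rw [show (![i, j, k] : Fin 3 → ι) = Fin.cons i (Fin.cons j ![k]) from rfl, inter_cons,
      inter_cons, inter_one]
    exact (inf_assoc _ _ _).le
  have h := congrArg (CohBase.res (Coh.toAb M).obj h33) (congrFun hT ![i, j, k])
  rw [Groth.CohBase.dCoch_apply, Fin.sum_univ_three] at h
  simp only [Fin.val_zero, Fin.val_one, Fin.val_two, pow_zero, pow_one, one_smul, neg_smul,
    neg_one_sq, map_add, map_neg, CohBase.res_res, s] at h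
  have e0 : (![i, j, k] : Fin 3 → ι) ∘ (0 : Fin 3).succAbove = ![j, k] := by
    funext a; fin_cases a <;> rfl
  have e1 : (![i, j, k] : Fin 3 → ι) ∘ (1 : Fin 3).succAbove = ![i, k] := by
    funext a; fin_cases a <;> rfl
  have e2 : (![i, j, k] : Fin 3 → ι) ∘ (2 : Fin 3).succAbove = ![i, j] := by
    funext a; fin_cases a <;> rfl
  rw [Coch.congr_res (X := X.toTopCat) U _ T e0 _
      (le_trans (inf_le_inf_right (U k) inf_le_right) (h2 j k)),
    Coch.congr_res (X := X.toTopCat) U _ T e1 _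
      (le_trans (inf_le_inf_right (U k) inf_le_left) (h2 i k)),
    Coch.congr_res (X := X.toTopCat) U _ T e2 _ (le_trans inf_le_left (h2 i j))] at h
  have hg' : CohBase.res (Coh.toAb M).obj (h33.trans (h3 ![i, j, k]))
      (g (![i, j, k] 0) (![i, j, k] 1) (![i, j, k] 2)) = g i j k := CohBase.res_self _ _
  change (show (Coh.toAb M).obj.obj (op (U i ⊓ U j ⊓ U k)) from g i j k) + CohBase.res (Coh.toAb M).obj _ (CohBase.res _ _ (T ![i, k])) =
    CohBase.res (Coh.toAb M).obj _ (CohBase.res _ _ (T ![i, j])) +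
      CohBase.res (Coh.toAb M).obj _ (CohBase.res _ _ (T ![j, k]))
  rw [CohBase.res_res, CohBase.res_res, CohBase.res_res]
  linear_combination (norm := abel) -h - hg'

variable {I : X.IdealSheafData}

/-- An invertible module on a first order thickening lifts if `H²(I) = 0`. -/
theorem exists_lift [X.IsSeparated] (hI : I * I = ⊥)
    (h2 : Subsingleton (Coh.HH X (ClSub.idealMod I) 2))
    {L₀ : I.subscheme.Modules} (hL₀ : PicF.IsInvertible L₀) :
    ∃ L : X.Modules, PicF.IsInvertible L ∧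
      Nonempty ((Scheme.Modules.pullback I.subschemeι).obj L ≅ L₀) := by
  let ι := I.subschemeι
  have hloc : ∀ x : X, ∃ (U : X.Opens) (e : Γ(L₀, ι ⁻¹ᵁ U)),
      IsAffineOpen U ∧ x ∈ U ∧ Gen L₀ (ι ⁻¹ᵁ U) e := by
    intro x
    obtain ⟨z, rfl⟩ := Groth.PicAux.ThickInj.mem_range hI x
    obtain ⟨W, e, hzW, he⟩ := (Groth.PicAux.isInvertible_iff_exists_gen L₀).1 hL₀ z
    obtain ⟨W', hW', hW⟩ := ι.isEmbedding.isInducing.isOpen_iff.1 W.2
    have hzW' : ι z ∈ W' := show z ∈ ι ⁻¹' W' from hW ▸ hzW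
    obtain ⟨U, hU, hxU, hle⟩ := exists_isAffineOpen_mem_and_subset (X := X) (x := ι z)
      (U := ⟨W', hW'⟩) hzW'
    have hUW : ι ⁻¹ᵁ U ≤ W := fun w hw => by
      change w ∈ W.carrier
      rw [← hW]
      exact hle hw
    exact ⟨U, res L₀ hUW e, hU, hxU, he.res hUW⟩
  choose U e hU hxU he using hloc
  have hcov : iSup U = ⊤ := eq_top_iff.2 fun x _ => Opens.mem_iSup.2 ⟨x, hxU x⟩
  have hlift : ∀ x y, ∃ a : Γ(X, U x ⊓ U y), IsUnit a ∧
      res L₀ (ι.preimage_mono (inf_le_left : U x ⊓ U y ≤ U x)) (e x) =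
        ι.app (U x ⊓ U y) a • res L₀ (ι.preimage_mono (inf_le_right : U x ⊓ U y ≤ U y)) (e y) := by
    intro x y
    obtain ⟨w, hw⟩ := ((he y).res (ι.preimage_mono (inf_le_right : U x ⊓ U y ≤ U y))).exists_unit
      ((he x).res (ι.preimage_mono (inf_le_left : U x ⊓ U y ≤ U x)))
    obtain ⟨a, ha⟩ := ι.app_surjective (U x ⊓ U y) ((hU x).inf (hU y))
      (w : Γ(I.subscheme, ι ⁻¹ᵁ (U x ⊓ U y)))
    exact ⟨a, Groth.PicAux.ThickInj.isUnit_of_app hI (ha ▸ w.isUnit), ha.symm ▸ hw⟩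
  choose a hau ha using hlift
  let r : ∀ {V W : X.Opens} (_ : V ≤ W), Γ(X, W) →+* Γ(X, V) := fun h => resX X h
  have happ : ∀ {V W : X.Opens} (h : V ≤ W) (b : Γ(X, W)),
      ι.app V (resX X h b) = resX I.subscheme (ι.preimage_mono h) (ι.app W b) := fun h b =>
    congr($(ι.naturality (homOfLE h).op) b)
  have hab : ∀ (x y z : X) (W : X.Opens) (h₁ : W ≤ U x ⊓ U y) (h₂ : W ≤ U y ⊓ U z)
      (h₃ : W ≤ U x ⊓ U z),
      ι.app W (resX X h₁ (a x y) * resX X h₂ (a y z)) = ι.app W (resX X h₃ (a x z)) := by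
    intro x y z W h₁ h₂ h₃
    refine (he z).smul_inj (ι.preimage_mono (h₂.trans inf_le_right)) ?_
    have e1 := congrArg (res L₀ (ι.preimage_mono h₁)) (ha x y)
    have e2 := congrArg (res L₀ (ι.preimage_mono h₂)) (ha y z)
    have e3 := congrArg (res L₀ (ι.preimage_mono h₃)) (ha x z)
    simp only [Groth.PicAux.res_smul, Groth.PicAux.res_res] at e1 e2 e3
    rw [map_mul, mul_smul, happ, happ, happ, ← e2, ← e1, ← e3]
  have hc : ∀ x y z, ∃ g : Γ(ClSub.idealMod I, U x ⊓ U y ⊓ U z),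
      resX X inf_le_left (a x y) * resX X (inf_le_inf_right (U z) inf_le_right) (a y z) =
        resX X (inf_le_inf_right (U z) inf_le_left) (a x z) *
          (1 + OmegaSh.idealSect I (U x ⊓ U y ⊓ U z) g) := by
    intro x y z
    obtain ⟨w, hw⟩ := (hau x z).map
      (resX X (inf_le_inf_right (U z) inf_le_left : U x ⊓ U y ⊓ U z ≤ U x ⊓ U z))
    let P := resX X (inf_le_left : U x ⊓ U y ⊓ U z ≤ U x ⊓ U y) (a x y) *
      resX X (inf_le_inf_right (U z) inf_le_right : U x ⊓ U y ⊓ U z ≤ U y ⊓ U z) (a y z)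
    obtain ⟨g, hg⟩ := Groth.OmegaSheaf.exists_idealSect_eq I (U x ⊓ U y ⊓ U z) (↑w⁻¹ * P - 1) (by
      rw [map_sub, map_mul, map_one, hab x y z _ inf_le_left _ (inf_le_inf_right (U z) inf_le_left),
        ← hw, ← map_mul, Units.inv_mul, map_one, sub_self])
    refine ⟨g, ?_⟩
    rw [hg, ← hw, add_sub_cancel, ← mul_assoc, Units.mul_inv, one_mul]
  choose g hg using hc
  have hsect : ∀ {V W : X.Opens} (h : V ≤ W) (k : Γ(ClSub.idealMod I, W)),
      OmegaSh.idealSect I V (res _ h k) = resX X h (OmegaSh.idealSect I W k) :=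
    fun h k => Groth.OmegaSheaf.idealSect_res I h k
  have hzero : ∀ {W : X.Opens} (k l : Γ(ClSub.idealMod I, W)),
      OmegaSh.idealSect I W k * OmegaSh.idealSect I W l = 0 := fun k l =>
    Groth.PicAux.ThickInj.mul_eq_zero_of_app hI (Groth.OmegaSheaf.subschemeι_app_idealSect I _ k)
      (Groth.OmegaSheaf.subschemeι_app_idealSect I _ l)
  obtain ⟨t, ht⟩ := exists_split_two (ClSub.idealMod I) h2 U hU hcov g (by
    intro p q s d W h₁ h₂ h₃ h₄
    refine Groth.OmegaSheaf.idealSect_injective I W ?_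
    rw [map_add, map_add, hsect, hsect, hsect, hsect]
    let A := fun (i j : X) (h : W ≤ U i ⊓ U j) => resX X h (a i j)
    have hp : W ≤ U p := h₄.trans (inf_le_left.trans inf_le_left)
    have hq : W ≤ U q := h₄.trans (inf_le_left.trans inf_le_right)
    have hs : W ≤ U s := h₄.trans inf_le_right
    have hd : W ≤ U d := h₁.trans inf_le_right
    have E1 := congrArg (resX X h₁) (hg q s d)
    have E2 := congrArg (resX X h₂) (hg p s d)
    have E3 := congrArg (resX X h₃) (hg p q d)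
    have E4 := congrArg (resX X h₄) (hg p q s)
    simp only [map_mul, map_add, map_one, Groth.PicAux.resX_resX] at E1 E2 E3 E4
    set c₁ := resX X h₁ (OmegaSh.idealSect I _ (g q s d))
    set c₂ := resX X h₂ (OmegaSh.idealSect I _ (g p s d))
    set c₃ := resX X h₃ (OmegaSh.idealSect I _ (g p q d))
    set c₄ := resX X h₄ (OmegaSh.idealSect I _ (g p q s))
    have z₁ : c₁ * c₃ = 0 := by
      simp only [c₁, c₃, ← hsect]
      exact hzero _ _
    have z₂ : c₂ * c₄ = 0 := by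
      simp only [c₂, c₄, ← hsect]
      exact hzero _ _
    refine ((hau p d).map (resX X (le_inf hp hd))).mul_left_cancel ?_
    linear_combination (-resX X (le_inf hp hq) (a p q)) * E1 + (1 + c₄) * E2
      - (1 + c₁) * E3 + resX X (le_inf hs hd) (a s d) * E4
      + resX X (le_inf hp hd) (a p d) * z₂ - resX X (le_inf hp hd) (a p d) * z₁)
  let η : ∀ x y, Γ(X, U x ⊓ U y) := fun x y =>
    a x y * (1 - OmegaSh.idealSect I (U x ⊓ U y) (t x y))
  have hηapp : ∀ x y, ι.app _ (η x y) = ι.app _ (a x y) := fun x y => by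
    simp only [η, map_mul, map_sub, map_one, ι, Groth.OmegaSheaf.subschemeι_app_idealSect,
      sub_zero, mul_one]
  obtain ⟨L, s, hs, hL, hst⟩ := Groth.PicAux.exists_module_of_cocycle U η hcov
    (fun x y => (hau x y).mul (Groth.PicAux.ThickInj.isUnit_of_app hI (by
      rw [map_sub, map_one, Groth.OmegaSheaf.subschemeι_app_idealSect, sub_zero]
      exact isUnit_one)))
    (fun x y z => by
      simp only [η, map_mul, map_sub, map_one, ← hsect]
      have hz := congrArg (OmegaSh.idealSect I (U x ⊓ U y ⊓ U z)) (ht x y z)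
      rw [map_add, map_add] at hz
      set α₁ := OmegaSh.idealSect I _ (res _ (inf_le_left : U x ⊓ U y ⊓ U z ≤ U x ⊓ U y) (t x y))
      set α₂ := OmegaSh.idealSect I _
        (res _ (inf_le_inf_right (U z) inf_le_right : U x ⊓ U y ⊓ U z ≤ U y ⊓ U z) (t y z))
      set α₃ := OmegaSh.idealSect I _
        (res _ (inf_le_inf_right (U z) inf_le_left : U x ⊓ U y ⊓ U z ≤ U x ⊓ U z) (t x z))
      set c := OmegaSh.idealSect I _ (g x y z)
      have zα : α₁ * α₂ = 0 := hzero _ _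
      have zc₁ : c * α₁ = 0 := hzero _ _
      have zc₂ : c * α₂ = 0 := hzero _ _
      linear_combination (-(1 - α₁) * (1 - α₂)) * hg x y z
        + resX X (inf_le_inf_right (U z) inf_le_left : U x ⊓ U y ⊓ U z ≤ U x ⊓ U z) (a x z) *
          (-(1 + c) * zα + zc₁ + zc₂ - hz))
  refine ⟨L, hL, ?_⟩
  have hcov' : iSup (fun x => ι ⁻¹ᵁ U x) = ⊤ :=
    eq_top_iff.2 fun z _ => Opens.mem_iSup.2 ⟨ι z, hxU (ι z)⟩
  obtain ⟨φ, -⟩ := Groth.PicAux.exists_iso_of_gen hcov' (fun x => pullSec ι L (s x))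
    (fun x => (hs x).pull ι) e he fun x y b hb => by
      have h1 := congrArg (pullSec ι L) (hst x y)
      rw [Groth.PicAux.pullSec_smul, ← Groth.PicAux.res_pullSec, ← Groth.PicAux.res_pullSec,
        hηapp] at h1
      have hb' : b = ι.app _ (a x y) :=
        ((hs y).pull ι).smul_inj inf_le_right (hb.symm.trans h1)
      rw [hb']
      exact ha x y
  exact ⟨φ⟩

end Groth.CurveDiv.ThickLift
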