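import Groth.Agent.LocFree.Basic
import Groth.Agent.PicAux.QCoh
import Groth.Agent.QCohMod.QCQS

/-!
# Invertibility is local, and descends along surjections for finite locally free modules

Light copies of the two lemmas of `Ega2Proj.RelAmple` and `Curves1.RR.OddDeg`, to keep the import
closure of the descent files small.
-/

set_option autoImplicit false
set_option backward.isDefEq.respectTransparency.types false

universe u

open CategoryTheory AlgebraicGeometry TopologicalSpace Opposite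

namespace Groth.CurveDiv.InvLocal

open Groth.PicAux

variable {X : Scheme.{u}} {M : X.Modules}

theorem isInvertible_of_cover (h : ∀ x : X, ∃ W : X.Opens, x ∈ W ∧ PicF.IsInvertible (M.restrict W.ι)) :
    PicF.IsInvertible M := by
  rw [isInvertible_iff_exists_gen]
  intro x
  obtain ⟨W, hx, hW⟩ := h x
  obtain ⟨U, e, hxU, he⟩ := (isInvertible_iff_exists_gen _).1 hW ⟨x, hx⟩
  refine ⟨W.ι ''ᵁ U, (e : Γ(M, W.ι ''ᵁ U)), ⟨⟨x, hx⟩, hxU, rfl⟩, fun V hV => ?_⟩
  obtain ⟨V', rfl⟩ : ∃ V' : W.toScheme.Opens, W.ι ''ᵁ V' = V :=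
    ⟨W.ι ⁻¹ᵁ V, by
      rw [Scheme.Hom.image_preimage_eq_opensRange_inf, Scheme.Opens.opensRange_ι]
      exact inf_eq_right.2 (hV.trans (W.ι_image_le U))⟩
  have hV' : V' ≤ U := by
    intro y hy
    obtain ⟨z, hz, hzy⟩ := hV ⟨y, hy, rfl⟩
    exact W.ι.isOpenEmbedding.injective hzy ▸ hz
  have hb := he V' hV'
  have e1 : (fun r : Γ(X, W.ι ''ᵁ V') => r • Groth.PicAux.res M hV (e : Γ(M, W.ι ''ᵁ U))) =
      fun r : Γ(W.toScheme, V') => r • Groth.PicAux.res (M.restrict W.ι) hV' e :=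
    funext fun r => (restrict_smul W V' r _).symm
  exact (congrArg Function.Bijective e1).mpr hb

theorem isInvertible_of_surjective_pullback {X Y : Scheme.{u}} (g : Y ⟶ X) [Surjective g] {M : X.Modules}
    (hM : FlatMod.IsFinLocFree M) (h : PicF.IsInvertible ((Scheme.Modules.pullback g).obj M)) :
    PicF.IsInvertible M := by
  rw [Groth.LocFree.isInvertible_iff_ofRank_one] at h ⊢
  intro x
  obtain ⟨U, n, hx, ⟨e⟩⟩ := hM x
  obtain ⟨y, rfl⟩ := g.surjective x
  obtain ⟨s, hs⟩ := Groth.LocFree.exists_basis_of_iso e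
  obtain ⟨e'⟩ := Groth.LocFree.nonempty_iso_of_basis (hs.pull g)
  have hn := Groth.LocFree.rank_unique
    (Groth.LocFree.isFinLocFreeOfRank_of_iso e'.symm
      (Groth.LocFree.isFinLocFreeOfRank_freeMod _ n))
    (Groth.LocFree.isFinLocFreeOfRank_restrict (g ⁻¹ᵁ U).ι h) ⟨y, hx⟩
  subst hn
  exact ⟨U, hx, ⟨e⟩⟩

end Groth.CurveDiv.InvLocal
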