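import Groth.Agent.DescentBase.EffIso
import Groth.Agent.DescentBase.QCohHom
import Groth.Agent.DescentBase.QCohFpqc
import Groth.Agent.PicAux.GenLocusAffine
import Groth.Agent.Pi1Desc.Act
import Groth.Agent.PicAux.Sections
import Groth.Agent.PicAux.Pullback
import Groth.Agent.PicAux.QCoh
import Groth.Agent.ThetaAlg.Cart
import Groth.Agent.CurveDiv.InvLocal
import Groth.Agent.DescentBase.QCohFpqc
import Groth.Agent.PicAux.GenLocusAffine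
import Groth.Prelude.Def_PicLoc

/-!
# Transition isomorphisms of modules along one fpqc covering morphism

`conj k φ` is the base change of a morphism between inverse images along `k`. A transition
isomorphism satisfying the cocycle condition descends a quasi-coherent module, and a morphism
compatible with the two projections descends.
-/

set_option autoImplicit false
set_option backward.isDefEq.respectTransparency.types false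

universe u

open CategoryTheory Limits AlgebraicGeometry Opposite TopologicalSpace

namespace Groth.CurveDiv.Transition

open Groth.DescentBase Groth.PicAux
open Groth.Pi1Desc (IsCover)

variable {T T' T'' Z W V : Scheme.{u}} {A : Z.Modules} {B : W.Modules} {C : V.Modules}

/-- The base change of a morphism between inverse images. -/
noncomputable def conj (k : T' ⟶ T) {a : T ⟶ Z} {b : T ⟶ W}
    (φ : (Scheme.Modules.pullback a).obj A ⟶ (Scheme.Modules.pullback b).obj B)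
    (a' : T' ⟶ Z) (ha : k ≫ a = a') (b' : T' ⟶ W) (hb : k ≫ b = b') :
    (Scheme.Modules.pullback a').obj A ⟶ (Scheme.Modules.pullback b').obj B :=
  (pullTo k a a' ha A).inv ≫ (Scheme.Modules.pullback k).map φ ≫ (pullTo k b b' hb B).hom

theorem conj_congr {k k' : T' ⟶ T} (h : k = k') {a : T ⟶ Z} {b : T ⟶ W}
    (φ : (Scheme.Modules.pullback a).obj A ⟶ (Scheme.Modules.pullback b).obj B)
    (a' : T' ⟶ Z) (ha : k ≫ a = a') (b' : T' ⟶ W) (hb : k ≫ b = b') :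
    conj k φ a' ha b' hb = conj k' φ a' (h ▸ ha) b' (h ▸ hb) := by
  subst h; rfl

theorem conj_id (k : T' ⟶ T) (a : T ⟶ Z) (a' : T' ⟶ Z) (ha : k ≫ a = a') :
    conj k (𝟙 ((Scheme.Modules.pullback a).obj A)) a' ha a' ha = 𝟙 _ := by
  simp [conj]

theorem conj_comp (k : T' ⟶ T) {a : T ⟶ Z} {b : T ⟶ W} {c : T ⟶ V}
    (φ : (Scheme.Modules.pullback a).obj A ⟶ (Scheme.Modules.pullback b).obj B)
    (ψ : (Scheme.Modules.pullback b).obj B ⟶ (Scheme.Modules.pullback c).obj C)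
    (a' : T' ⟶ Z) (ha : k ≫ a = a') (b' : T' ⟶ W) (hb : k ≫ b = b') (c' : T' ⟶ V)
    (hc : k ≫ c = c') :
    conj k (φ ≫ ψ) a' ha c' hc = conj k φ a' ha b' hb ≫ conj k ψ b' hb c' hc := by
  simp [conj]

theorem isIso_conj (k : T' ⟶ T) {a : T ⟶ Z} {b : T ⟶ W}
    (φ : (Scheme.Modules.pullback a).obj A ⟶ (Scheme.Modules.pullback b).obj B) [IsIso φ]
    (a' : T' ⟶ Z) (ha : k ≫ a = a') (b' : T' ⟶ W) (hb : k ≫ b = b') :
    IsIso (conj k φ a' ha b' hb) := by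
  unfold conj; infer_instance

theorem conj_conj (j : T'' ⟶ T') (k : T' ⟶ T) (jk : T'' ⟶ T) (hjk : j ≫ k = jk)
    {a : T ⟶ Z} {b : T ⟶ W}
    (φ : (Scheme.Modules.pullback a).obj A ⟶ (Scheme.Modules.pullback b).obj B)
    (a' : T' ⟶ Z) (ha : k ≫ a = a') (b' : T' ⟶ W) (hb : k ≫ b = b')
    (a'' : T'' ⟶ Z) (ha' : j ≫ a' = a'') (b'' : T'' ⟶ W) (hb' : j ≫ b' = b'') :
    conj j (conj k φ a' ha b' hb) a'' ha' b'' hb' =
      conj jk φ a'' (by rw [← hjk, Category.assoc, ha, ha']) b''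
        (by rw [← hjk, Category.assoc, hb, hb']) := by
  have ha'' : jk ≫ a = a'' := by rw [← hjk, Category.assoc, ha, ha']
  have hb'' : jk ≫ b = b'' := by rw [← hjk, Category.assoc, hb, hb']
  have e1 := pullTo_assoc j k jk hjk a a' ha a'' ha' ha'' A
  have e2 := pullTo_assoc j k jk hjk b b' hb b'' hb' hb'' B
  have e1' : (pullTo j a' a'' ha' A).inv ≫
      (Scheme.Modules.pullback j).map (pullTo k a a' ha A).inv =
      (pullTo jk a a'' ha'' A).inv ≫ (pullTo j k jk hjk _).inv := by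
    rw [← cancel_epi (pullTo j a' a'' ha' A).hom, Iso.hom_inv_id_assoc,
      ← cancel_epi ((Scheme.Modules.pullback j).map (pullTo k a a' ha A).hom), ← Functor.map_comp,
      Iso.hom_inv_id, CategoryTheory.Functor.map_id, reassoc_of% e1, Iso.hom_inv_id_assoc,
      Iso.hom_inv_id]
  have hnat : (pullTo j k jk hjk ((Scheme.Modules.pullback a).obj A)).hom ≫
      (Scheme.Modules.pullback jk).map φ =
      (Scheme.Modules.pullback j).map ((Scheme.Modules.pullback k).map φ) ≫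
        (pullTo j k jk hjk _).hom := by
    subst hjk
    simp [pullTo, Scheme.Modules.pullbackCongr]
    exact ((Scheme.Modules.pullbackComp j k).hom.naturality φ).symm
  simp only [conj, Functor.map_comp, Category.assoc]
  rw [e2, ← reassoc_of% hnat, reassoc_of% e1', Iso.inv_hom_id_assoc]

theorem bc_app (k : T' ⟶ T) {a : T ⟶ Z} {b : T ⟶ W}
    (φ : (Scheme.Modules.pullback a).obj A ⟶ (Scheme.Modules.pullback b).obj B)
    (a' : T' ⟶ Z) (ha : k ≫ a = a') (b' : T' ⟶ W) (hb : k ≫ b = b') (x : El A a) :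
    (conj k φ a' ha b' hb).app ⊤ (bc k a a' ha x) = bc k b b' hb (φ.app ⊤ x) :=
  (bc_conj k a b a' ha b' hb φ x).symm

/-- Morphisms which agree after base change give equal inverse images. -/
theorem map_eq_of_conj_eq (k : T' ⟶ T) {a : T ⟶ Z} {b : T ⟶ W}
    {φ ψ : (Scheme.Modules.pullback a).obj A ⟶ (Scheme.Modules.pullback b).obj B}
    (a' : T' ⟶ Z) (ha : k ≫ a = a') (b' : T' ⟶ W) (hb : k ≫ b = b')
    (h : conj k φ a' ha b' hb = conj k ψ a' ha b' hb) :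
    (Scheme.Modules.pullback k).map φ = (Scheme.Modules.pullback k).map ψ :=
  (cancel_mono _).1 ((cancel_epi _).1 h)

theorem comm_aux {C : Type*} [Category C] {a b c x y d : C} (u : a ⟶ b) (α : b ⟶ x) (γ : y ≅ x)
    (β : a ⟶ c) (δ : c ⟶ d) (v : d ⟶ y) (h : u ≫ α = β ≫ δ ≫ v ≫ γ.hom) :
    u ≫ α ≫ γ.inv = (β ≫ δ) ≫ v := by
  rw [reassoc_of% h]; simp

/-! ### Generators -/

theorem gen_bc (h : T' ⟶ T) (g : T ⟶ Z) (g' : T' ⟶ Z) (e : h ≫ g = g') {x : El A g}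
    (hx : Gen ((Scheme.Modules.pullback g).obj A) ⊤ x) :
    Gen ((Scheme.Modules.pullback g').obj A) ⊤ (bc h g g' e x) :=
  Gen.map (Gen.pull_top h hx) (pullTo h g g' e A).hom

theorem hom_ext_of_gen {M N : T.Modules} {x : Γ(M, ⊤)} (hx : Gen M ⊤ x) {φ ψ : M ⟶ N}
    (h : φ.app ⊤ x = ψ.app ⊤ x) : φ = ψ :=
  hom_ext_gen (U := fun _ : Unit => (⊤ : T.Opens)) (by simp) (fun _ => x) (fun _ => hx) fun _ => h

theorem exists_iso_of_gen_top {M N : T.Modules} {x : Γ(M, ⊤)} (hx : Gen M ⊤ x) {y : Γ(N, ⊤)}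
    (hy : Gen N ⊤ y) : ∃ φ : M ≅ N, φ.hom.app ⊤ x = y := by
  have h1 : IsIso (homOfSection x) := (isIso_hom_structure_iff _).2 (by simpa using hx)
  have h2 : IsIso (homOfSection y) := (isIso_hom_structure_iff _).2 (by simpa using hy)
  refine ⟨(asIso (homOfSection x)).symm ≪≫ asIso (homOfSection y), ?_⟩
  have e : (inv (homOfSection x)).app ⊤ x = oneSec T ⊤ :=
    (congrArg ((inv (homOfSection x)).app ⊤) (homOfSection_one x)).symm.trans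
      congr(($(IsIso.hom_inv_id (homOfSection x))).app ⊤ (oneSec T ⊤))
  exact (congrArg ((homOfSection y).app ⊤) e).trans (homOfSection_one y)

section Generic

universe w

variable {C : Type*} [Category C] (F : Pseudofunctor (LocallyDiscrete Cᵒᵖ) Cat)

theorem toLoc_comp {Y Z W : C} {g : Y ⟶ Z} {p : Z ⟶ W} {q : Y ⟶ W} (e : g ≫ p = q) :
    p.op.toLoc ≫ g.op.toLoc = q.op.toLoc := by
  subst e; rfl

/-- The composition comparison with the nested object spelled out. -/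
def cInv {Y Z W : C} (g : Y ⟶ Z) (p : Z ⟶ W) (q : Y ⟶ W)
    (h : p.op.toLoc ≫ g.op.toLoc = q.op.toLoc) (M : F.obj (.mk (op W))) :
    (F.map g.op.toLoc).toFunctor.obj ((F.map p.op.toLoc).toFunctor.obj M) ⟶
      (F.map q.op.toLoc).toFunctor.obj M :=
  (F.mapComp' p.op.toLoc g.op.toLoc q.op.toLoc h).inv.toNatTrans.app M

/-- The composition comparison with the nested object spelled out. -/
def cHom {Y Z W : C} (g : Y ⟶ Z) (p : Z ⟶ W) (q : Y ⟶ W)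
    (h : p.op.toLoc ≫ g.op.toLoc = q.op.toLoc) (M : F.obj (.mk (op W))) :
    (F.map q.op.toLoc).toFunctor.obj M ⟶
      (F.map g.op.toLoc).toFunctor.obj ((F.map p.op.toLoc).toFunctor.obj M) :=
  (F.mapComp' p.op.toLoc g.op.toLoc q.op.toLoc h).hom.toNatTrans.app M

theorem pullHom_eq {Y' Y Z : C} (k : Y' ⟶ Y) (g₁ g₂ : Y ⟶ Z) (a : Y' ⟶ Z) (b : Y' ⟶ Z)
    (ha : k ≫ g₁ = a) (hb : k ≫ g₂ = b) (ea : g₁.op.toLoc ≫ k.op.toLoc = a.op.toLoc)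
    (eb : g₂.op.toLoc ≫ k.op.toLoc = b.op.toLoc) (A : F.obj (.mk (op Z)))
    (φ : (F.map g₁.op.toLoc).toFunctor.obj A ⟶ (F.map g₂.op.toLoc).toFunctor.obj A) :
    Pseudofunctor.LocallyDiscreteOpToCat.pullHom (F := F) φ k a b ha hb =
      cHom F k g₁ a ea A ≫ (F.map k.op.toLoc).toFunctor.map φ ≫ cInv F k g₂ b eb A :=
  rfl

theorem comm_gen {X S : C} (p : X ⟶ S) (D : F.DescentData (fun _ : PUnit.{w + 1} => p))
    (M : F.obj (.mk (op S))) (e : (F.toDescentData (fun _ : PUnit.{w + 1} => p)).obj M ⟶ D) {Y : C}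
    (q : Y ⟶ S) (g₁ g₂ : Y ⟶ X) (h₁ : g₁ ≫ p = q) (h₂ : g₂ ≫ p = q)
    (e₁ : p.op.toLoc ≫ g₁.op.toLoc = q.op.toLoc) (e₂ : p.op.toLoc ≫ g₂.op.toLoc = q.op.toLoc) :
    (F.map g₁.op.toLoc).toFunctor.map (e.hom PUnit.unit) ≫
        D.hom q (i₁ := PUnit.unit) (i₂ := PUnit.unit) g₁ g₂ h₁ h₂ =
      (cInv F g₁ p q e₁ M ≫ cHom F g₂ p q e₂ M) ≫
        (F.map g₂.op.toLoc).toFunctor.map (e.hom PUnit.unit) :=
  e.comm q g₁ g₂ h₁ h₂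

theorem exists_hom_gen {X S : C} (p : X ⟶ S) (K L : F.obj (.mk (op S)))
    (φ : (F.map p.op.toLoc).toFunctor.obj K ⟶ (F.map p.op.toLoc).toFunctor.obj L)
    (h : ∀ {Y : C} (q : Y ⟶ S) (g₁ g₂ : Y ⟶ X) (_ : g₁ ≫ p = q) (_ : g₂ ≫ p = q)
      (e₁ : p.op.toLoc ≫ g₁.op.toLoc = q.op.toLoc) (e₂ : p.op.toLoc ≫ g₂.op.toLoc = q.op.toLoc),
      (F.map g₁.op.toLoc).toFunctor.map φ ≫ (cInv F g₁ p q e₁ L ≫ cHom F g₂ p q e₂ L) =
        (cInv F g₁ p q e₁ K ≫ cHom F g₂ p q e₂ K) ≫ (F.map g₂.op.toLoc).toFunctor.map φ) :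
    ∃ Φ : (F.toDescentData (fun _ : PUnit.{w + 1} => p)).obj K ⟶
        (F.toDescentData (fun _ : PUnit.{w + 1} => p)).obj L, Φ.hom PUnit.unit = φ :=
  ⟨{ hom := fun _ => φ
     comm := fun _ q _ _ g₁ g₂ h₁ h₂ => h q g₁ g₂ h₁ h₂ (toLoc_comp h₁) (toLoc_comp h₂) }, rfl⟩

end Generic

theorem toLoc_comp_eq {Y' Y Z : Scheme.{u}} {k : Y' ⟶ Y} {g : Y ⟶ Z} {a : Y' ⟶ Z} (e : k ≫ g = a) :
    g.op.toLoc ≫ k.op.toLoc = a.op.toLoc := by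
  subst e; rfl

theorem cInv_eq {Y' Y Z : Scheme.{u}} (k : Y' ⟶ Y) (g : Y ⟶ Z) (a : Y' ⟶ Z) (e : k ≫ g = a)
    (h : g.op.toLoc ≫ k.op.toLoc = a.op.toLoc) (A : Z.Modules) :
    @Eq ((Scheme.Modules.pullback k).obj ((Scheme.Modules.pullback g).obj A) ⟶
        (Scheme.Modules.pullback a).obj A)
      (cInv Desc.modPF.{u} k g a h A) (Groth.DescentBase.pullTo k g a e A).hom := by
  subst e
  have h1 : (Groth.DescentBase.pullTo k g (k ≫ g) rfl A).hom =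
      (Scheme.Modules.pullbackComp k g).hom.app A := by
    simp [pullTo, Scheme.Modules.pullbackCongr]
  rw [h1]
  exact congr(($(Pseudofunctor.mapComp'_eq_mapComp Desc.modPF.{u} g.op.toLoc k.op.toLoc)).inv.toNatTrans.app A)

theorem cHom_eq {Y' Y Z : Scheme.{u}} (k : Y' ⟶ Y) (g : Y ⟶ Z) (a : Y' ⟶ Z) (e : k ≫ g = a)
    (h : g.op.toLoc ≫ k.op.toLoc = a.op.toLoc) (A : Z.Modules) :
    @Eq ((Scheme.Modules.pullback a).obj A ⟶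
        (Scheme.Modules.pullback k).obj ((Scheme.Modules.pullback g).obj A))
      (cHom Desc.modPF.{u} k g a h A) (Groth.DescentBase.pullTo k g a e A).inv := by
  subst e
  have h1 : (Groth.DescentBase.pullTo k g (k ≫ g) rfl A).inv =
      (Scheme.Modules.pullbackComp k g).inv.app A := by
    simp [pullTo, Scheme.Modules.pullbackCongr]
  rw [h1]
  exact congr(($(Pseudofunctor.mapComp'_eq_mapComp Desc.modPF.{u} g.op.toLoc k.op.toLoc)).hom.toNatTrans.app A)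

theorem comp₃_congr {C : Type*} [Category C] {a b c d : C} {x x' : a ⟶ b} (φ : b ⟶ c)
    {y y' : c ⟶ d} (hx : x = x') (hy : y = y') : x ≫ φ ≫ y = x' ≫ φ ≫ y' := by
  rw [hx, hy]

theorem comp₂_congr {C : Type*} [Category C] {a b c : C} {x x' : a ⟶ b} {y y' : b ⟶ c}
    (hx : x = x') (hy : y = y') : x ≫ y = x' ≫ y' := by
  rw [hx, hy]

theorem modPF_pullHom_eq {Y' Y Z : Scheme.{u}} (k : Y' ⟶ Y) (g₁ g₂ : Y ⟶ Z) (a : Y' ⟶ Z)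
    (b : Y' ⟶ Z) (ha : k ≫ g₁ = a) (hb : k ≫ g₂ = b) (A : Z.Modules)
    (φ : (Scheme.Modules.pullback g₁).obj A ⟶ (Scheme.Modules.pullback g₂).obj A) :
    Pseudofunctor.LocallyDiscreteOpToCat.pullHom (F := Desc.modPF.{u}) φ k a b ha hb =
      conj k φ a ha b hb :=
  (pullHom_eq Desc.modPF.{u} k g₁ g₂ a b ha hb (toLoc_comp_eq ha) (toLoc_comp_eq hb) A φ).trans
    (comp₃_congr (C := Y'.Modules) ((Scheme.Modules.pullback k).map φ)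
      (cHom_eq k g₁ a ha (toLoc_comp_eq ha) A) (cInv_eq k g₂ b hb (toLoc_comp_eq hb) A))

/-! ### Effectivity -/

theorem mem_fpqc {X' X : Scheme.{u}} (p : X' ⟶ X) [IsCover p] :
    Presieve.ofArrows (fun _ : PUnit.{u + 1} => X') (fun _ => p) ∈ Scheme.fpqcPrecoverage X := by
  rw [Presieve.ofArrows_pUnit]
  exact IsCover.mem_fpqc p

variable {X X' Y₂ Y₃ : Scheme.{u}} (p : X' ⟶ X) [IsCover p] {P₁ P₂ : Y₂ ⟶ X'}
  (H₂ : IsPullback P₁ P₂ p p)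

/-- The transition morphism at a pair of points. -/
noncomputable def tr {A : X'.Modules}
    (φ : (Scheme.Modules.pullback P₁).obj A ⟶ (Scheme.Modules.pullback P₂).obj A) {Y : Scheme.{u}}
    (f₁ f₂ : Y ⟶ X') (h : f₁ ≫ p = f₂ ≫ p) :
    (Scheme.Modules.pullback f₁).obj A ⟶ (Scheme.Modules.pullback f₂).obj A :=
  conj (H₂.lift f₁ f₂ h) φ f₁ (H₂.lift_fst _ _ _) f₂ (H₂.lift_snd _ _ _)

omit [IsCover p] in
theorem tr_eq {A : X'.Modules}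
    (φ : (Scheme.Modules.pullback P₁).obj A ⟶ (Scheme.Modules.pullback P₂).obj A) {Y : Scheme.{u}}
    (f₁ f₂ : Y ⟶ X') (h : f₁ ≫ p = f₂ ≫ p) (k : Y ⟶ Y₂) (k₁ : k ≫ P₁ = f₁) (k₂ : k ≫ P₂ = f₂) :
    tr p H₂ φ f₁ f₂ h = conj k φ f₁ k₁ f₂ k₂ :=
  conj_congr (H₂.hom_ext (by simp [k₁]) (by simp [k₂])) φ f₁ _ f₂ _

omit [IsCover p] in
include H₂ in
theorem tr_conj {A : X'.Modules}
    (φ : (Scheme.Modules.pullback P₁).obj A ⟶ (Scheme.Modules.pullback P₂).obj A) {Y Y' : Scheme.{u}}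
    (g : Y' ⟶ Y) (f₁ f₂ : Y ⟶ X') (h : f₁ ≫ p = f₂ ≫ p) (gf₁ gf₂ : Y' ⟶ X') (hg₁ : g ≫ f₁ = gf₁)
    (hg₂ : g ≫ f₂ = gf₂) (h' : gf₁ ≫ p = gf₂ ≫ p) :
    conj g (tr p H₂ φ f₁ f₂ h) gf₁ hg₁ gf₂ hg₂ = tr p H₂ φ gf₁ gf₂ h' := by
  obtain ⟨k, k₁, k₂⟩ := H₂.exists_lift f₁ f₂ h
  rw [tr_eq p H₂ φ f₁ f₂ h k k₁ k₂, conj_conj g k (g ≫ k) rfl φ f₁ k₁ f₂ k₂ gf₁ hg₁ gf₂ hg₂]
  exact (tr_eq p H₂ φ gf₁ gf₂ h' (g ≫ k) _ _).symm

omit [IsCover p] in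
theorem tr_self {A : X'.Modules}
    (φ : (Scheme.Modules.pullback P₁).obj A ⟶ (Scheme.Modules.pullback P₂).obj A) (Δ : X' ⟶ Y₂)
    (hΔ₁ : Δ ≫ P₁ = 𝟙 X') (hΔ₂ : Δ ≫ P₂ = 𝟙 X')
    (hΔ : conj Δ φ (𝟙 X') hΔ₁ (𝟙 X') hΔ₂ = 𝟙 _) {Y : Scheme.{u}} (g : Y ⟶ X') :
    tr p H₂ φ g g rfl = 𝟙 _ := by
  rw [tr_eq p H₂ φ g g rfl (g ≫ Δ) (by rw [Category.assoc, hΔ₁, Category.comp_id])
      (by rw [Category.assoc, hΔ₂, Category.comp_id]),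
    ← conj_conj g Δ (g ≫ Δ) rfl φ (𝟙 X') hΔ₁ (𝟙 X') hΔ₂ g (Category.comp_id g) g
      (Category.comp_id g), hΔ]
  exact conj_id g (𝟙 X') g (Category.comp_id g)

omit [IsCover p] in
theorem tr_comp {A : X'.Modules} {π₁₂ π₂₃ π₁₃ : Y₃ ⟶ Y₂} (H₃ : IsPullback π₁₂ π₂₃ P₂ P₁)
    (h₁ : π₁₃ ≫ P₁ = π₁₂ ≫ P₁) (h₂ : π₁₃ ≫ P₂ = π₂₃ ≫ P₂)
    (φ : (Scheme.Modules.pullback P₁).obj A ⟶ (Scheme.Modules.pullback P₂).obj A)
    (hcoc : conj π₁₂ φ (π₁₂ ≫ P₁) rfl (π₁₂ ≫ P₂) rfl ≫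
        conj π₂₃ φ (π₁₂ ≫ P₂) H₃.w.symm (π₂₃ ≫ P₂) rfl =
      conj π₁₃ φ (π₁₂ ≫ P₁) h₁ (π₂₃ ≫ P₂) h₂) {Y : Scheme.{u}} (f₁ f₂ f₃ : Y ⟶ X')
    (h12 : f₁ ≫ p = f₂ ≫ p) (h23 : f₂ ≫ p = f₃ ≫ p) (h13 : f₁ ≫ p = f₃ ≫ p) :
    tr p H₂ φ f₁ f₂ h12 ≫ tr p H₂ φ f₂ f₃ h23 = tr p H₂ φ f₁ f₃ h13 := by
  obtain ⟨k, k₁, k₂⟩ := H₂.exists_lift f₁ f₂ h12
  obtain ⟨k', k₁', k₂'⟩ := H₂.exists_lift f₂ f₃ h23
  obtain ⟨l, hl, hl'⟩ := H₃.exists_lift k k' (k₂.trans k₁'.symm)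
  have a1 : l ≫ π₁₂ ≫ P₁ = f₁ := by rw [reassoc_of% hl, k₁]
  have a2 : l ≫ π₁₂ ≫ P₂ = f₂ := by rw [reassoc_of% hl, k₂]
  have a3 : l ≫ π₂₃ ≫ P₂ = f₃ := by rw [reassoc_of% hl', k₂']
  rw [tr_eq p H₂ φ f₁ f₂ h12 k k₁ k₂, tr_eq p H₂ φ f₂ f₃ h23 k' k₁' k₂',
    tr_eq p H₂ φ f₁ f₃ h13 (l ≫ π₁₃) (by rw [Category.assoc, h₁, a1])
      (by rw [Category.assoc, h₂, a3]),
    ← conj_conj l π₁₂ k hl φ (π₁₂ ≫ P₁) rfl (π₁₂ ≫ P₂) rfl f₁ a1 f₂ a2,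
    ← conj_conj l π₂₃ k' hl' φ (π₁₂ ≫ P₂) H₃.w.symm (π₂₃ ≫ P₂) rfl f₂ a2 f₃ a3,
    ← conj_conj l π₁₃ (l ≫ π₁₃) rfl φ (π₁₂ ≫ P₁) h₁ (π₂₃ ≫ P₂) h₂ f₁ a1 f₃ a3,
    ← conj_comp l _ _ f₁ a1 f₂ a2 f₃ a3, hcoc]

/-- The descent datum of a transition morphism. -/
noncomputable def datum {π₁₂ π₂₃ π₁₃ : Y₃ ⟶ Y₂} (H₃ : IsPullback π₁₂ π₂₃ P₂ P₁)
    (h₁ : π₁₃ ≫ P₁ = π₁₂ ≫ P₁) (h₂ : π₁₃ ≫ P₂ = π₂₃ ≫ P₂) (Δ : X' ⟶ Y₂) (hΔ₁ : Δ ≫ P₁ = 𝟙 X')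
    (hΔ₂ : Δ ≫ P₂ = 𝟙 X') (A : X'.Modules) [A.IsQuasicoherent]
    (φ : (Scheme.Modules.pullback P₁).obj A ⟶ (Scheme.Modules.pullback P₂).obj A)
    (hΔ : conj Δ φ (𝟙 X') hΔ₁ (𝟙 X') hΔ₂ = 𝟙 _)
    (hcoc : conj π₁₂ φ (π₁₂ ≫ P₁) rfl (π₁₂ ≫ P₂) rfl ≫
        conj π₂₃ φ (π₁₂ ≫ P₂) H₃.w.symm (π₂₃ ≫ P₂) rfl =
      conj π₁₃ φ (π₁₂ ≫ P₁) h₁ (π₂₃ ≫ P₂) h₂) :
    Desc.modPF.{u}.DescentData (fun _ : PUnit.{u + 1} => p) :=
    { obj := fun _ => A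
      hom := fun Y q _ _ f₁ f₂ e₁ e₂ => tr p H₂ φ f₁ f₂ (e₁.trans e₂.symm)
      pullHom_hom := fun Y' Y g q q' hq i₁ i₂ f₁ f₂ hf₁ hf₂ gf₁ gf₂ hg₁ hg₂ =>
        (modPF_pullHom_eq g f₁ f₂ gf₁ gf₂ hg₁ hg₂ A (tr p H₂ φ f₁ f₂ (hf₁.trans hf₂.symm))).trans
          (tr_conj p H₂ φ g f₁ f₂ _ gf₁ gf₂ hg₁ hg₂ _)
      hom_self := fun Y q i g hg => tr_self p H₂ φ Δ hΔ₁ hΔ₂ hΔ g
      hom_comp := fun Y q i₁ i₂ i₃ f₁ f₂ f₃ hf₁ hf₂ hf₃ =>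
        tr_comp p H₂ H₃ h₁ h₂ φ hcoc f₁ f₂ f₃ (hf₁.trans hf₂.symm) (hf₂.trans hf₃.symm)
          (hf₁.trans hf₃.symm) }

omit [IsCover p] in
theorem comm_eq_aux (D : Desc.modPF.{u}.DescentData (fun _ : PUnit.{u + 1} => p)) {M : X.Modules}
    (e : (Desc.modPF.{u}.toDescentData (fun _ : PUnit.{u + 1} => p)).obj M ⟶ D)
    {Y : Scheme.{u}} (g₁ g₂ : Y ⟶ X') (q : Y ⟶ X) (h₁ : g₁ ≫ p = q) (h₂ : g₂ ≫ p = q)
    (e₁ : p.op.toLoc ≫ g₁.op.toLoc = q.op.toLoc) (e₂ : p.op.toLoc ≫ g₂.op.toLoc = q.op.toLoc) :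
    (Desc.modPF.{u}.map g₁.op.toLoc).toFunctor.map (e.hom PUnit.unit) ≫
        D.hom q (i₁ := PUnit.unit) (i₂ := PUnit.unit) g₁ g₂ h₁ h₂ =
      (cInv Desc.modPF.{u} g₁ p q e₁ M ≫ cHom Desc.modPF.{u} g₂ p q e₂ M) ≫
        (Desc.modPF.{u}.map g₂.op.toLoc).toFunctor.map (e.hom PUnit.unit) :=
  comm_gen.{u} Desc.modPF.{u} p D M e q g₁ g₂ h₁ h₂ e₁ e₂

omit [IsCover p] in
theorem comm_eq_aux' (D : Desc.modPF.{u}.DescentData (fun _ : PUnit.{u + 1} => p)) {M : X.Modules}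
    (e : (Desc.modPF.{u}.toDescentData (fun _ : PUnit.{u + 1} => p)).obj M ⟶ D)
    {Y : Scheme.{u}} (g₁ g₂ : Y ⟶ X') (q : Y ⟶ X) (h₁ : g₁ ≫ p = q) (h₂ : g₂ ≫ p = q)
    (e₁ : p.op.toLoc ≫ g₁.op.toLoc = q.op.toLoc) (e₂ : p.op.toLoc ≫ g₂.op.toLoc = q.op.toLoc) :
    (Desc.modPF.{u}.map g₁.op.toLoc).toFunctor.map (e.hom PUnit.unit) ≫
        D.hom q (i₁ := PUnit.unit) (i₂ := PUnit.unit) g₁ g₂ h₁ h₂ =
      ((pullTo g₁ p q h₁ M).hom ≫ (pullTo g₂ p q h₂ M).inv) ≫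
        (Desc.modPF.{u}.map g₂.op.toLoc).toFunctor.map (e.hom PUnit.unit) :=
  (comm_eq_aux p D e g₁ g₂ q h₁ h₂ e₁ e₂).trans (congrArg (fun x => x ≫ _)
    (comp₂_congr (C := Y.Modules) (cInv_eq g₁ p q h₁ e₁ M) (cHom_eq g₂ p q h₂ e₂ M)))

omit [IsCover p] in
theorem comm_eq (D : Desc.modPF.{u}.DescentData (fun _ : PUnit.{u + 1} => p))
    {M : X.Modules} (e : (Desc.modPF.{u}.toDescentData (fun _ : PUnit.{u + 1} => p)).obj M ⟶ D)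
    {Y : Scheme.{u}} (g₁ g₂ : Y ⟶ X') (q : Y ⟶ X) (h₁ : g₁ ≫ p = q) (h₂ : g₂ ≫ p = q) :
    (Scheme.Modules.pullback g₁).map
        (show (Scheme.Modules.pullback p).obj M ⟶ dObj D PUnit.unit from e.hom PUnit.unit) ≫
        dHom D q g₁ g₂ h₁ h₂ =
      ((pullTo g₁ p q h₁ M).hom ≫ (pullTo g₂ p q h₂ M).inv) ≫
        (Scheme.Modules.pullback g₂).map
          (show (Scheme.Modules.pullback p).obj M ⟶ dObj D PUnit.unit from e.hom PUnit.unit) :=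
  comm_eq_aux' p D e g₁ g₂ q h₁ h₂ (toLoc_comp h₁) (toLoc_comp h₂)

include H₂ in
/-- A transition morphism with the cocycle condition descends a quasi-coherent module. -/
theorem exists_descent {π₁₂ π₂₃ π₁₃ : Y₃ ⟶ Y₂} (H₃ : IsPullback π₁₂ π₂₃ P₂ P₁)
    (h₁ : π₁₃ ≫ P₁ = π₁₂ ≫ P₁) (h₂ : π₁₃ ≫ P₂ = π₂₃ ≫ P₂) (Δ : X' ⟶ Y₂) (hΔ₁ : Δ ≫ P₁ = 𝟙 X')
    (hΔ₂ : Δ ≫ P₂ = 𝟙 X') (A : X'.Modules) [A.IsQuasicoherent]
    (φ : (Scheme.Modules.pullback P₁).obj A ⟶ (Scheme.Modules.pullback P₂).obj A)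
    (hΔ : conj Δ φ (𝟙 X') hΔ₁ (𝟙 X') hΔ₂ = 𝟙 _)
    (hcoc : conj π₁₂ φ (π₁₂ ≫ P₁) rfl (π₁₂ ≫ P₂) rfl ≫
        conj π₂₃ φ (π₁₂ ≫ P₂) H₃.w.symm (π₂₃ ≫ P₂) rfl =
      conj π₁₃ φ (π₁₂ ≫ P₁) h₁ (π₂₃ ≫ P₂) h₂) :
    ∃ (M : X.Modules) (ψ : (Scheme.Modules.pullback p).obj M ≅ A), M.IsQuasicoherent ∧
      ∀ (Y : Scheme.{u}) (g₁ g₂ : Y ⟶ X') (k : Y ⟶ Y₂) (k₁ : k ≫ P₁ = g₁) (k₂ : k ≫ P₂ = g₂)
        (q : Y ⟶ X) (e₁ : g₁ ≫ p = q) (e₂ : g₂ ≫ p = q),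
        (pullTo g₁ p q e₁ M).inv ≫ (Scheme.Modules.pullback g₁).map ψ.hom ≫
            conj k φ g₁ k₁ g₂ k₂ =
          (pullTo g₂ p q e₂ M).inv ≫ (Scheme.Modules.pullback g₂).map ψ.hom := by
  obtain ⟨M, hM, ⟨e⟩⟩ := exists_toDescentData_iso (mem_fpqc p) (datum p H₂ H₃ h₁ h₂ Δ hΔ₁ hΔ₂ A φ hΔ hcoc)
    fun _ => ‹A.IsQuasicoherent›
  let ψ : (Scheme.Modules.pullback p).obj M ≅ A :=
    { hom := e.hom.hom PUnit.unit
      inv := e.inv.hom PUnit.unit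
      hom_inv_id := congrArg (fun Φ => Φ.hom PUnit.unit) e.hom_inv_id
      inv_hom_id := congrArg (fun Φ => Φ.hom PUnit.unit) e.inv_hom_id }
  refine ⟨M, ψ, hM, fun Y g₁ g₂ k k₁ k₂ q e₁ e₂ => ?_⟩
  have H : (Scheme.Modules.pullback g₁).map ψ.hom ≫ tr p H₂ φ g₁ g₂ (e₁.trans e₂.symm) =
      ((pullTo g₁ p q e₁ M).hom ≫ (pullTo g₂ p q e₂ M).inv) ≫
        (Scheme.Modules.pullback g₂).map ψ.hom :=
    comm_eq p _ e.hom g₁ g₂ q e₁ e₂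
  have H' : (Scheme.Modules.pullback g₁).map ψ.hom ≫ conj k φ g₁ k₁ g₂ k₂ =
      ((pullTo g₁ p q e₁ M).hom ≫ (pullTo g₂ p q e₂ M).inv) ≫
        (Scheme.Modules.pullback g₂).map ψ.hom :=
    (congrArg (_ ≫ ·) (tr_eq p H₂ φ g₁ g₂ (e₁.trans e₂.symm) k k₁ k₂).symm).trans H
  rw [H', Category.assoc, Iso.inv_hom_id_assoc]

omit [IsCover p] in
theorem exists_hom_of_aux {K L : X.Modules}
    (φ : (Scheme.Modules.pullback p).obj K ⟶ (Scheme.Modules.pullback p).obj L)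
    (h : ∀ {Y : Scheme.{u}} (q : Y ⟶ X) (g₁ g₂ : Y ⟶ X') (e₁ : g₁ ≫ p = q) (e₂ : g₂ ≫ p = q),
      (Scheme.Modules.pullback g₁).map φ ≫ ((pullTo g₁ p q e₁ L).hom ≫ (pullTo g₂ p q e₂ L).inv) =
        ((pullTo g₁ p q e₁ K).hom ≫ (pullTo g₂ p q e₂ K).inv) ≫
          (Scheme.Modules.pullback g₂).map φ)
    {Y : Scheme.{u}} (q : Y ⟶ X) (g₁ g₂ : Y ⟶ X') (h₁ : g₁ ≫ p = q) (h₂ : g₂ ≫ p = q)
    (e₁ : p.op.toLoc ≫ g₁.op.toLoc = q.op.toLoc) (e₂ : p.op.toLoc ≫ g₂.op.toLoc = q.op.toLoc) :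
    (Desc.modPF.{u}.map g₁.op.toLoc).toFunctor.map φ ≫
        (cInv Desc.modPF.{u} g₁ p q e₁ L ≫ cHom Desc.modPF.{u} g₂ p q e₂ L) =
      (cInv Desc.modPF.{u} g₁ p q e₁ K ≫ cHom Desc.modPF.{u} g₂ p q e₂ K) ≫
        (Desc.modPF.{u}.map g₂.op.toLoc).toFunctor.map φ :=
  (congrArg (fun x => _ ≫ x)
    (comp₂_congr (C := Y.Modules) (cInv_eq g₁ p q h₁ e₁ L) (cHom_eq g₂ p q h₂ e₂ L))).trans
    ((h q g₁ g₂ h₁ h₂).trans (congrArg (fun x => x ≫ _)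
      (comp₂_congr (C := Y.Modules) (cInv_eq g₁ p q h₁ e₁ K) (cHom_eq g₂ p q h₂ e₂ K)).symm))

omit [IsCover p] in
theorem exists_hom_of {K L : X.Modules}
    (φ : (Scheme.Modules.pullback p).obj K ⟶ (Scheme.Modules.pullback p).obj L)
    (h : ∀ {Y : Scheme.{u}} (q : Y ⟶ X) (g₁ g₂ : Y ⟶ X') (e₁ : g₁ ≫ p = q) (e₂ : g₂ ≫ p = q),
      (Scheme.Modules.pullback g₁).map φ ≫ ((pullTo g₁ p q e₁ L).hom ≫ (pullTo g₂ p q e₂ L).inv) =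
        ((pullTo g₁ p q e₁ K).hom ≫ (pullTo g₂ p q e₂ K).inv) ≫
          (Scheme.Modules.pullback g₂).map φ) :
    ∃ Φ : (Desc.modPF.{u}.toDescentData (fun _ : PUnit.{u + 1} => p)).obj K ⟶
        (Desc.modPF.{u}.toDescentData (fun _ : PUnit.{u + 1} => p)).obj L, Φ.hom PUnit.unit = φ :=
  exists_hom_gen.{u} Desc.modPF.{u} p K L φ
    fun q g₁ g₂ h₁ h₂ e₁ e₂ => exists_hom_of_aux p φ h q g₁ g₂ h₁ h₂ e₁ e₂

include H₂ in
/-- A morphism of inverse images compatible with the two projections descends. -/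
theorem nonempty_iso_of_compat {M N : X.Modules} [M.IsQuasicoherent] [N.IsQuasicoherent]
    (Φ : (Scheme.Modules.pullback p).obj M ≅ (Scheme.Modules.pullback p).obj N)
    (h : conj P₁ Φ.hom (P₁ ≫ p) rfl (P₁ ≫ p) rfl =
      conj P₂ Φ.hom (P₁ ≫ p) H₂.w.symm (P₁ ≫ p) H₂.w.symm) :
    Nonempty (M ≅ N) := by
  have key : ∀ {K L : X.Modules} (φ : (Scheme.Modules.pullback p).obj K ⟶ (Scheme.Modules.pullback p).obj L),
      conj P₁ φ (P₁ ≫ p) rfl (P₁ ≫ p) rfl =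
        conj P₂ φ (P₁ ≫ p) H₂.w.symm (P₁ ≫ p) H₂.w.symm →
      ∀ [L.IsQuasicoherent], ∃ u : K ⟶ L, (Scheme.Modules.pullback p).map u = φ := by
    intro K L φ hφ _
    obtain ⟨Φ', hΦ'⟩ := exists_hom_of p φ fun q g₁ g₂ e₁ e₂ => by
      obtain ⟨k, hk₁, hk₂⟩ := H₂.exists_lift g₁ g₂ (e₁.trans e₂.symm)
      have hq : k ≫ (P₁ ≫ p) = q := by rw [reassoc_of% hk₁, e₁]
      have H := congrArg (fun χ => conj k χ q hq q hq) hφ
      rw [conj_conj k P₁ g₁ hk₁, conj_conj k P₂ g₂ hk₂] at H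
      simp only [conj] at H
      rw [Iso.inv_comp_eq] at H
      exact comm_aux _ _ _ _ _ _ H
    obtain ⟨u, hu⟩ := (toDescentData_map_bijective (mem_fpqc p) K L).2 Φ'
    exact ⟨u, (congrArg (fun Φ => Φ.hom PUnit.unit) hu).trans hΦ'⟩
  have hinv : conj P₁ Φ.inv (P₁ ≫ p) rfl (P₁ ≫ p) rfl =
      conj P₂ Φ.inv (P₁ ≫ p) H₂.w.symm (P₁ ≫ p) H₂.w.symm := by
    have := isIso_conj P₁ Φ.hom (P₁ ≫ p) rfl (P₁ ≫ p) rfl
    rw [← cancel_epi (conj P₁ Φ.hom (P₁ ≫ p) rfl (P₁ ≫ p) rfl), ← conj_comp, Iso.hom_inv_id,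
      conj_id, h, ← conj_comp, Iso.hom_inv_id, conj_id]
  obtain ⟨u, hu⟩ := key Φ.hom h
  obtain ⟨v, hv⟩ := key Φ.inv hinv
  have inj : ∀ {K : X.Modules} [K.IsQuasicoherent] (w w' : K ⟶ K),
      (Scheme.Modules.pullback p).map w = (Scheme.Modules.pullback p).map w' → w = w' :=
    fun {K} _ w w' hw => (toDescentData_map_bijective (mem_fpqc p) K K).1
      (Pseudofunctor.DescentData.hom_ext fun _ => hw)
  exact ⟨⟨u, v, inj _ _ (by simp [hu, hv]), inj _ _ (by simp [hu, hv])⟩⟩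

/-- Invertibility descends along a covering morphism. -/
theorem isInvertible_of_pullback {M : X.Modules} [M.IsQuasicoherent]
    (h : PicF.IsInvertible ((Scheme.Modules.pullback p).obj M)) : PicF.IsInvertible M := by
  refine Groth.CurveDiv.InvLocal.isInvertible_of_cover fun x => ?_
  obtain ⟨_, ⟨O, hO, rfl⟩, hxO, -⟩ := X.isBasis_affineOpens.exists_subset_of_mem_open
    (Set.mem_univ x) isOpen_univ
  obtain ⟨K, hK, hKO⟩ := IsCover.exists_isCompact_image_eq p hO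
  have hle : K ≤ p ⁻¹ᵁ O := fun y hy => (Set.ext_iff.1 hKO (p y)).1 ⟨y, hy, rfl⟩
  let k := p.resLE O K hle
  have : Flat p := IsCover.flat
  have : Flat k := by simp only [k, Scheme.Hom.resLE]; infer_instance
  have : Surjective k := ⟨fun y => by
    obtain ⟨z, hz, hzy⟩ := (Set.ext_iff.1 hKO y.1).2 y.2
    exact ⟨⟨z, hz⟩, Subtype.ext ((Scheme.Hom.coe_resLE_apply _ _ _).trans hzy)⟩⟩
  have : IsAffine O := hO
  have : CompactSpace K := isCompact_iff_compactSpace.1 hK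
  have : QuasiCompact k := (HasAffineProperty.iff_of_isAffine (P := @QuasiCompact)).2 inferInstance
  refine ⟨O, hxO, ?_⟩
  have hq : (M.restrict (Scheme.Opens.ι O)).IsQuasicoherent := inferInstance
  have e := Scheme.Hom.resLE_comp_ι p hle
  have hk : PicF.IsInvertible ((Scheme.Modules.pullback k).obj (M.restrict (Scheme.Opens.ι O))) := by
    refine Groth.PicAux.isInvertible_of_iso (PicLoc.isInvertible_pullback K.ι h) ?_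
    exact (Scheme.Modules.pullbackComp K.ι p).app M ≪≫
      (Scheme.Modules.pullbackCongr e.symm).app M ≪≫
      ((Scheme.Modules.pullbackComp k (Scheme.Opens.ι O)).app M).symm ≪≫
      (Scheme.Modules.pullback k).mapIso
        ((Scheme.Modules.restrictFunctorIsoPullback (Scheme.Opens.ι O)).app M).symm
  exact Groth.CurveDiv.InvLocal.isInvertible_of_surjective_pullback k
    (Groth.DescentBase.QCohFpqc.isFinLocFree_of_pullback k _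
      (fun y => (((Groth.LocFree.isInvertible_iff_ofRank_one.1 hk) y).imp fun U hU =>
        ⟨1, hU.1, hU.2⟩))) hk

end Groth.CurveDiv.Transition
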