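import Groth.Agent.CurveDiv.Basic
import Groth.Agent.FlatMor2.FibCrit.SliceScheme
import Groth.Agent.BlowUpBasics.CartierDiv
import Groth.Agent.Flatmor4.ThickFT
import Groth.Agent.SpectralTopology.FpCancel
import Groth.Prelude.Def_Mor2

/-!
# Relative effective Cartier divisors on smooth curves (helper78)
-/

set_option autoImplicit false
set_option linter.style.haveILetI false

universe u

open CategoryTheory CategoryTheory.Limits AlgebraicGeometry IsLocalRing TopologicalSpace

namespace Groth.CurveDiv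

open Groth.RefRank.RelDiv Groth.RefRank.EffCartierLocal Groth.Divisors

variable {X S : Scheme.{u}} (f : X ⟶ S) [SmoothOfRelativeDimension 1 f] {I : X.IdealSheafData}

lemma exists_mul_mem {V : X.affineOpens} {x : X} (hx : x ∈ V.1) {K L : Ideal Γ(X, V.1)} (hK : K.FG)
    (h : K.map (X.presheaf.germ V.1 x hx).hom ≤ L.map (X.presheaf.germ V.1 x hx).hom) :
    ∃ g : Γ(X, V.1), IsUnit (X.presheaf.germ V.1 x hx g) ∧ ∀ k ∈ K, g * k ∈ L := by
  classical
  letI := TopCat.Presheaf.algebra_section_stalk X.presheaf ⟨x, hx⟩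
  haveI := V.2.isLocalization_stalk ⟨x, hx⟩
  obtain ⟨s, hs⟩ := hK
  have hk : ∀ k ∈ s, ∃ m ∈ (V.2.primeIdealOf ⟨x, hx⟩).asIdeal.primeCompl, m * k ∈ L := fun k hks =>
    (IsLocalization.algebraMap_mem_map_algebraMap_iff
      (V.2.primeIdealOf ⟨x, hx⟩).asIdeal.primeCompl (X.presheaf.stalk x) L k).1
      (h (Ideal.mem_map_of_mem _ (hs ▸ Ideal.subset_span hks)))
  choose! m hm hmk using hk
  refine ⟨∏ k ∈ s, m k, IsLocalization.map_units (X.presheaf.stalk x)
    (⟨_, Submonoid.prod_mem _ hm⟩ : (V.2.primeIdealOf ⟨x, hx⟩).asIdeal.primeCompl), fun k hk => ?_⟩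
  have hle : K ≤ L.colon {∏ j ∈ s, m j} := by
    rw [← hs, Ideal.span_le]
    intro j hj
    rw [SetLike.mem_coe, Submodule.mem_colon_singleton, smul_eq_mul]
    obtain ⟨q, hq⟩ := Finset.dvd_prod_of_mem m hj
    rw [hq, show j * (m j * q) = q * (m j * j) by ring]
    exact L.mul_mem_left _ (hmk j hj)
  have := Submodule.mem_colon_singleton.1 (hle hk)
  rwa [smul_eq_mul, mul_comm] at this

lemma exists_le_ideal_eq (hfg : ∀ V : X.affineOpens, (I.ideal V).FG) {V : X.affineOpens} {x : X}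
    (hx : x ∈ V.1) (L : Ideal Γ(X, V.1)) (hL : L.FG) (O : X.Opens) (hxO : x ∈ O)
    (h : (I.ideal V).map (X.presheaf.germ V.1 x hx).hom = L.map (X.presheaf.germ V.1 x hx).hom) :
    ∃ (W : X.affineOpens) (hW : W.1 ≤ V.1), x ∈ W.1 ∧ W.1 ≤ O ∧
      I.ideal W = L.map (X.presheaf.map (homOfLE hW).op).hom := by
  obtain ⟨g₁, hg₁, h₁⟩ := exists_mul_mem hx (hfg V) h.le
  obtain ⟨g₂, hg₂, h₂⟩ := exists_mul_mem hx hL h.ge
  obtain ⟨W, hxW, hWle⟩ := exists_affine_le x (X.basicOpen (g₁ * g₂) ⊓ O)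
    ⟨(X.mem_basicOpen _ x hx).2 (by rw [map_mul]; exact hg₁.mul hg₂), hxO⟩
  have hW : W.1 ≤ V.1 := (hWle.trans inf_le_left).trans (X.basicOpen_le _)
  refine ⟨W, hW, hxW, hWle.trans inf_le_right, ?_⟩
  rw [← I.map_ideal (U := W) (V := V) hW]
  have hu : IsUnit ((X.presheaf.map (homOfLE hW).op).hom (g₁ * g₂)) := by
    have h0 := (X.toRingedSpace.isUnit_res_basicOpen (g₁ * g₂)).map
      (X.presheaf.map (homOfLE (hWle.trans inf_le_left)).op).hom
    convert h0 using 1
    show _ = (X.presheaf.map _ ≫ X.presheaf.map _).hom _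
    rw [← Functor.map_comp]
    rfl
  rw [map_mul] at hu
  refine le_antisymm (Ideal.map_le_iff_le_comap.2 fun k hk => ?_)
    (Ideal.map_le_iff_le_comap.2 fun k hk => ?_)
  · rw [Ideal.mem_comap, ← Ideal.unit_mul_mem_iff_mem _ (isUnit_of_mul_isUnit_left hu)]
    erw [← map_mul]
    exact Ideal.mem_map_of_mem _ (h₁ k hk)
  · rw [Ideal.mem_comap, ← Ideal.unit_mul_mem_iff_mem _ (isUnit_of_mul_isUnit_right hu)]
    erw [← map_mul]
    exact Ideal.mem_map_of_mem _ (h₂ k hk)

lemma ideal_eq_top_of_notMem {W : X.affineOpens} (h : ∀ y ∈ W.1, y ∉ I.support) :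
    I.ideal W = ⊤ := by
  by_contra hne
  obtain ⟨P, hP, hle⟩ := Ideal.exists_le_maximal _ hne
  let p : PrimeSpectrum Γ(X, W.1) := ⟨P, hP.isPrime⟩
  have hyW : W.2.fromSpec p ∈ W.1 := by
    have : W.2.fromSpec p ∈ Set.range W.2.fromSpec := ⟨p, rfl⟩
    rwa [W.2.range_fromSpec] at this
  refine h _ hyW ((Scheme.IdealSheafData.mem_support_iff_of_mem hyW).2 ?_)
  have : p ∈ W.2.fromSpec ⁻¹' X.zeroLocus (U := W.1) (I.ideal W) := by
    rw [W.2.fromSpec_preimage_zeroLocus]
    exact hle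
  exact this

include f in
/-- the two conditions on the ideal forbid it to vanish near a point -/
lemma false_of_ideal_eq_bot [LocallyQuasiFinite (I.subschemeι ≫ f)] {W : X.affineOpens} {x : X}
    (hxW : x ∈ W.1) (hW : I.ideal W = ⊥) : False := by
  haveI : Smooth f := SmoothOfRelativeDimension.smooth 1 f
  have hd : ∀ s : S, _root_.IsDiscrete ((W.1.ι ≫ f) ⁻¹' {s}) := fun s => by
    have h1 := ((I.subschemeι ≫ f).isDiscrete_preimage_singleton s).image
      I.subschemeι.isEmbedding.toIsInducing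
    have h2 : ((W.1.ι ≫ f) ⁻¹' {s}) =
        W.1.ι ⁻¹' (I.subschemeι '' ((I.subschemeι ≫ f) ⁻¹' {s})) := by
      ext ⟨y, hy⟩
      constructor
      · intro hys
        have hyI : y ∈ I.support := by
          rw [Scheme.IdealSheafData.mem_support_iff_of_mem hy, hW]
          simp [Scheme.mem_zeroLocus_iff]
        obtain ⟨z, hz⟩ := (Set.ext_iff.1 I.range_subschemeι y).2 hyI
        exact ⟨z, by simpa [hz] using hys, hz⟩
      · rintro ⟨z, hz, hzy⟩
        simp only [Set.mem_preimage, Scheme.Hom.comp_apply, Set.mem_singleton_iff] at hz ⊢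
        rw [← hz]
        exact congrArg f hzy.symm
    rw [h2]
    exact h1.preimage W.1.ι.continuous.continuousOn W.1.ι.isOpenEmbedding.injective
  haveI : LocallyQuasiFinite (W.1.ι ≫ f) := locallyQuasiFinite_iff_isDiscrete_preimage_singleton.2 hd
  have h0 := Groth.FibreDim.fibreDimAt_eq_zero_of_locallyQuasiFinite (W.1.ι ≫ f) ⟨x, hxW⟩
  rw [Groth.FibreDim.fibreDimAt_openImmersion_comp,
    Groth.FibreDim.fibreDimAt_eq_of_smoothOfRelativeDimension 1 f] at h0
  exact absurd h0 (by norm_num)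

omit [SmoothOfRelativeDimension 1 f] in
lemma stalkMap_map_le (x : X) : (maximalIdeal (S.presheaf.stalk (f x))).map (f.stalkMap x).hom ≤
    maximalIdeal (X.presheaf.stalk x) :=
  ((local_hom_TFAE (f.stalkMap x).hom).out 0 2 rfl rfl).mp
    (inferInstanceAs (IsLocalHom (f.stalkMap x).hom))

include f in
/-- flat, finitely presented and quasi-finite closed subschemes are Cartier -/
theorem isEffCartierIdeal_of_lqf [LocallyQuasiFinite (I.subschemeι ≫ f)]
    [Flat (I.subschemeι ≫ f)] [LocallyOfFinitePresentation (I.subschemeι ≫ f)] :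
    BlowUp.IsEffCartierIdeal I := by
  haveI : Smooth f := SmoothOfRelativeDimension.smooth 1 f
  haveI : LocallyOfFinitePresentation I.subschemeι := Groth.SpectralTopology.lfp_of_comp _ f
  have hfg : ∀ V, (I.ideal V).FG := fun V => by
    simpa using Groth.Flatmor4.ker_fg_of_lfp I.subschemeι V
  refine isEffCartierIdeal_of_local fun x => ?_
  by_cases hxI : x ∈ I.support
  swap
  · obtain ⟨W, hxW, hW⟩ := exists_affine_le x ⟨(I.support : Set X)ᶜ, I.support.isClosed.isOpen_compl⟩ hxI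
    refine ⟨W, hxW, 1, isNzdSec_one _, ?_⟩
    rw [ideal_eq_top_of_notMem fun y hy => hW hy, Ideal.span_singleton_one]
  obtain ⟨V, hxV, -⟩ := exists_affine_le x ⊤ trivial
  let φ := (f.stalkMap x).hom
  letI : Algebra (S.presheaf.stalk (f x)) (X.presheaf.stalk x) := φ.toAlgebra
  have hflat := (flat_subscheme_iff f I).1 inferInstance x V hxV
  haveI := (flat_comp_mk_iff (R := S.presheaf.stalk (f x))
    ((I.ideal V).map (X.presheaf.germ V.1 x hxV).hom)).1 hflat
  obtain ⟨hdom, hP, -⟩ := fibreRing f x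
  rcases eq_bot_or_exists_span (R := S.presheaf.stalk (f x))
    (m := maximalIdeal (S.presheaf.stalk (f x))) (stalkMap_map_le f x) hP
    ((hfg V).map (X.presheaf.germ V.1 x hxV).hom) with h0 | ⟨h, hhJ, hJ, hne⟩
  · obtain ⟨W, hWV, hxW, -, hW⟩ := exists_le_ideal_eq hfg hxV ⊥ Submodule.fg_bot ⊤ trivial
      (h0.trans Ideal.map_bot.symm)
    exact (false_of_ideal_eq_bot f hxW (by rw [hW, Ideal.map_bot])).elim
  · have hhm : h ∈ maximalIdeal (X.presheaf.stalk x) :=
      IsLocalRing.le_maximalIdeal ((mem_support_iff_map_germ_ne_top I hxV).1 hxI) hhJ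
    obtain ⟨U, hU, hxU, h', hgerm, hnzd, -, -⟩ := Groth.FlatMor2.FibCrit.exists_slice f x
      (Flat.stalkMap f x) h hhm (mem_nonZeroDivisors_of_ne_zero hne)
    obtain ⟨W, hWU, hxW, -, hW⟩ := exists_le_ideal_eq hfg (V := ⟨U, hU⟩) hxU (Ideal.span {h'})
      (Submodule.fg_span_singleton _) ⊤ trivial (by
        refine (map_germ_eq I hxU hxV).trans (hJ.trans ?_)
        rw [Ideal.map_span, Set.image_singleton, ← hgerm])
    refine ⟨W, hxW, _, (isNzdSec_of_mem hU hnzd).res hWU, ?_⟩
    rw [hW, Ideal.map_span, Set.image_singleton]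

include f in
/-- effective Cartier subschemes of a smooth curve are locally of finite presentation over the base -/
theorem lfp_of_isEffCartierIdeal (hI : BlowUp.IsEffCartierIdeal I) :
    LocallyOfFinitePresentation (I.subschemeι ≫ f) := by
  haveI : Smooth f := SmoothOfRelativeDimension.smooth 1 f
  haveI : LocallyOfFinitePresentation I.subschemeι :=
    Groth.Flatmor4.lfp_of_ker_fg _ fun V => by
      simpa using Groth.BlowUpBasics.fg_of_isEffCartierIdeal hI V
  infer_instance

lemma add_one_le_one_iff {a : WithBot ℕ∞} : a + 1 ≤ 1 ↔ a ≤ 0 := by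
  induction a with
  | bot => simp
  | coe a =>
    norm_cast
    exact ⟨fun h => ((ENat.add_le_add_iff_right (k := 1) (by simp)).1 (h.trans_eq (zero_add 1).symm)), fun h => by simp [le_zero_iff.1 h]⟩

include f in
/-- flat effective Cartier subschemes of a smooth curve are quasi-finite over the base -/
theorem lqf_of_isEffCartierIdeal (hI : BlowUp.IsEffCartierIdeal I) [Flat (I.subschemeι ≫ f)] :
    LocallyQuasiFinite (I.subschemeι ≫ f) := by
  haveI : Smooth f := SmoothOfRelativeDimension.smooth 1 f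
  haveI := lfp_of_isEffCartierIdeal f hI
  let g := I.subschemeι ≫ f
  refine locallyQuasiFinite_iff_isDiscrete_preimage_singleton.2 fun s => ?_
  haveI : IsLocallyNoetherian (g.fiber s) :=
    LocallyOfFiniteType.isLocallyNoetherian (g.fiberToSpecResidueField s)
  show _root_.IsDiscrete (g ⁻¹' {s})
  suffices hdim : topologicalKrullDim (g.fiber s) ≤ 0 by
    haveI := IsLocallyArtinian.of_topologicalKrullDim_le_zero hdim
    rw [← Scheme.Hom.range_fiberι, ← Set.image_univ]
    exact (isDiscrete_univ_iff.mpr inferInstance).image (g.fiberι s).isEmbedding.toIsInducing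
  rw [Groth.FibreDim.dim_eq_iSup_stalk]
  refine iSup_le fun w => ?_
  obtain ⟨z, hz⟩ : ∃ z, g.fiberι s w = z := ⟨_, rfl⟩
  obtain ⟨e⟩ := Groth.Ega4b.nonempty_fiber_stalk_equiv g s w z hz
  rw [← ringKrullDim_eq_of_ringEquiv e]
  obtain ⟨x, hx⟩ : ∃ x, I.subschemeι z = x := ⟨_, rfl⟩
  subst hx
  obtain ⟨V, hxV, -⟩ := exists_affine_le (I.subschemeι z) ⊤ trivial
  obtain ⟨g₀, hg₀, hJ⟩ := exists_stalk_gen hI hxV
  let A := X.presheaf.stalk (I.subschemeι z)
  let R := S.presheaf.stalk (f (I.subschemeι z))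
  letI : Algebra R A := (f.stalkMap (I.subschemeι z)).hom.toAlgebra
  have hflat := (flat_subscheme_iff f I).1 inferInstance (I.subschemeι z) V hxV
  rw [hJ] at hflat
  haveI := (flat_comp_mk_iff (R := R) (Ideal.span {g₀})).1 hflat
  obtain ⟨hdom, -, hFdim⟩ := fibreRing f (I.subschemeι z)
  have hne := mk_ne_zero_of_flat (R := R) (m := maximalIdeal R) (stalkMap_map_le f _)
    (nonZeroDivisors.ne_zero hg₀)
  have hmap : (maximalIdeal (S.presheaf.stalk (g z))).map (g.stalkMap z).hom =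
      ((maximalIdeal R).map (f.stalkMap (I.subschemeι z)).hom).map (I.subschemeι.stalkMap z).hom := by
    show Ideal.map ((I.subschemeι ≫ f).stalkMap z).hom _ = _
    rw [Scheme.Hom.stalkMap_comp]
    exact (Ideal.map_map _ _).symm
  let ψ := (Ideal.Quotient.mk ((maximalIdeal (S.presheaf.stalk (g z))).map (g.stalkMap z).hom)).comp
    (I.subschemeι.stalkMap z).hom
  have hψ : ∀ a ∈ (maximalIdeal R).map (f.stalkMap (I.subschemeι z)).hom, ψ a = 0 := fun a ha => by
    rw [RingHom.comp_apply, Ideal.Quotient.eq_zero_iff_mem, hmap]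
    exact Ideal.mem_map_of_mem _ ha
  have hg₀z : ψ g₀ = 0 := by
    rw [RingHom.comp_apply]
    have hk : g₀ ∈ RingHom.ker (I.subschemeι.stalkMap z).hom := by
      rw [Groth.Ega4b.ker_stalkMap_eq_map I.subschemeι V.2 z hxV, I.ker_subschemeι, hJ]
      exact Ideal.mem_span_singleton_self g₀
    rw [RingHom.mem_ker.1 hk, map_zero]
  have h1 := ringKrullDim_succ_le_of_surjective (Ideal.Quotient.lift _ ψ hψ)
    (Ideal.Quotient.lift_surjective_of_surjective _ _
      (Ideal.Quotient.mk_surjective.comp (I.subschemeι.stalkMap_surjective z)))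
    (mem_nonZeroDivisors_of_ne_zero hne) hg₀z
  exact add_one_le_one_iff.1 (h1.trans hFdim)

end Groth.CurveDiv
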