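import Groth.Agent.PicAux.MeroDepth
import Groth.Agent.Ega2Proj.Curve

/-!
# Divisors on absolute curves: supports are finite sets of closed points, divisors at one point
-/

set_option autoImplicit false
set_option linter.style.haveILetI false

universe u

open CategoryTheory AlgebraicGeometry Opposite TopologicalSpace

namespace Groth.CurveDiv.AbsCurve

open Groth.PicAux

variable {C : Scheme.{u}} [IsNoetherian C]

theorem exists_closed_specializes (y : C) : ∃ x : C, IsClosed ({x} : Set C) ∧ y ⤳ x := by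
  obtain ⟨x, hx, hxc⟩ := IsClosed.exists_closed_singleton (isClosed_closure (s := ({y} : Set C)))
    ⟨y, subset_closure rfl⟩
  exact ⟨x, hxc, specializes_iff_mem_closure.2 hx⟩

variable (hC : ∀ x : C, IsClosed ({x} : Set C) → ringKrullDim (C.presheaf.stalk x) = 1)

include hC

/-- A point which is not closed has no proper generalization. -/
theorem eq_of_specializes_of_not_isClosed {y z : C} (hy : ¬ IsClosed ({y} : Set C)) (hzy : z ⤳ y) :
    z = y := by
  obtain ⟨x, hxc, hyx⟩ := exists_closed_specializes y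
  have hne : y ≠ x := fun e => hy (e ▸ hxc)
  have hlt : x < y := ⟨hyx, fun h => hne (hyx.antisymm h).eq⟩
  have h1 : Order.coheight x = 1 := by
    have := (ringKrullDim_stalk_eq_coheight x).symm.trans (hC x hxc)
    exact_mod_cast this
  have h0 : Order.coheight y = 0 := by
    have := Order.coheight_add_one_le hlt
    rw [h1] at this
    by_contra h
    have h2 : (1 : ℕ∞) + 1 ≤ 1 := le_trans (add_le_add (Order.one_le_iff_ne_zero.2 h) le_rfl) this
    exact absurd h2 (by decide)
  by_contra hne'
  have hlt' : y < z := ⟨hzy, fun h => hne' (hzy.antisymm h).eq⟩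
  have := Order.coheight_add_one_le hlt'
  rw [h0] at this
  simp at this

/-- A point carrying a regular non unit is closed. -/
theorem isClosed_of_regular_nonunit {y : C} {c : C.presheaf.stalk y}
    (hc : c ∈ nonZeroDivisors (C.presheaf.stalk y))
    (hm : c ∈ IsLocalRing.maximalIdeal (C.presheaf.stalk y)) : IsClosed ({y} : Set C) := by
  by_contra hy
  have h1 := one_le_dim_of_regular hm hc
  rw [ringKrullDim_stalk_eq_coheight y] at h1
  have h0 : Order.coheight y = 0 := by
    rw [Order.coheight_eq_zero]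
    intro z hz
    exact (eq_of_specializes_of_not_isClosed hC hy hz).le
  rw [h0] at h1
  exact absurd h1 (by decide)

theorem finite_nonunit {U : C.Opens} (t : Mero.regSub C U) :
    {y : C | y ∈ U ∧ y ∉ C.basicOpen t.1}.Finite := by
  have h : ∀ y ∈ U, y ∉ C.basicOpen t.1 → IsClosed ({y} : Set C) := fun y hy hy' =>
    isClosed_of_regular_nonunit hC (t.2 ⟨y, hy⟩)
      ((IsLocalRing.mem_maximalIdeal _).2 fun hu => hy' ((C.mem_basicOpen _ y hy).2 hu))
  haveI : QuasiSober U := U.isOpenEmbedding'.quasiSober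
  have hF : ({y : U | y.1 ∉ C.basicOpen t.1}).Finite := by
    refine @Groth.Ega2Proj.finite_of_forall_isClosed_singleton U _ U.isOpenEmbedding'.isInducing.noetherianSpace U.isOpenEmbedding'.quasiSober U.isOpenEmbedding'.isEmbedding.t0Space _ ?_ fun y hy => ?_
    · exact ((C.basicOpen t.1).2.preimage continuous_subtype_val).isClosed_compl
    · have e : ({y} : Set U) = Subtype.val ⁻¹' {y.1} := by
        ext z
        exact Subtype.ext_iff
      exact e ▸ (h y.1 y.2 hy).preimage continuous_subtype_val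
  refine (hF.image Subtype.val).subset fun y hy => ?_
  exact ⟨⟨y, hy.1⟩, hy.2, rfl⟩

/-- Regular germs at finitely many closed points define an effective divisor supported at them. -/
theorem exists_divisor_finset (s : Finset C) (hs : ∀ x ∈ s, IsClosed ({x} : Set C))
    (b : ∀ x : C, Mero.regStalk C x) :
    ∃ E : Mero.Divisor C, Mero.IsEffective E ∧ (∀ y, y ∉ s → E.1 y = 1) ∧
      ∀ y ∈ s, E.1 y = QuotientGroup.mk (isUnit_toKStalk (b y)).unit := by
  classical
  let e : ∀ y : C, Mero.Germ C y := fun y =>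
    if y ∈ s then QuotientGroup.mk (isUnit_toKStalk (b y)).unit else 1
  have hin : ∀ y ∈ s, e y = QuotientGroup.mk (isUnit_toKStalk (b y)).unit := fun y hy => if_pos hy
  have hout : ∀ y, y ∉ s → e y = 1 := fun y hy => if_neg hy
  have hsc : IsClosed (s : Set C) := by
    rw [← Set.biUnion_of_singleton (s : Set C)]
    exact s.finite_toSet.isClosed_biUnion hs
  have hloc : e ∈ Mero.divisorGroup C := by
    intro z
    by_cases hz : z ∈ s
    · obtain ⟨U, hzU, t, ht, htb⟩ := (b z).2
      let T : Set C := ({y | y ∈ U ∧ y ∉ C.basicOpen t} ∪ (s : Set C)) \ {z}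
      have hclosed : ∀ y ∈ T, IsClosed ({y} : Set C) := fun y hy => hy.1.elim
        (fun h => isClosed_of_regular_nonunit hC (ht ⟨y, h.1⟩)
          ((IsLocalRing.mem_maximalIdeal _).2 fun hu => h.2 ((C.mem_basicOpen _ y h.1).2 hu)))
        (hs y)
      have hT : IsClosed T := by
        have hfin : T.Finite :=
          ((finite_nonunit hC ⟨t, ht⟩).union s.finite_toSet).subset Set.sdiff_subset
        rw [← Set.biUnion_of_singleton T]
        exact hfin.isClosed_biUnion hclosed
      let U' : C.Opens := U ⊓ ⟨Tᶜ, hT.isOpen_compl⟩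
      have hzU' : z ∈ U' := ⟨hzU, fun h => h.2 rfl⟩
      let t' : Mero.regSub C U' := ⟨_, Mero.regSub_res (homOfLE (inf_le_left : U' ≤ U)) ht⟩
      have hgerm : ∀ y : U', C.presheaf.germ U' y.1 y.2 t'.1 = C.presheaf.germ U y.1 y.2.1 t := fun y =>
        TopCat.Presheaf.germ_res_apply C.presheaf (homOfLE inf_le_left) y.1 y.2 t
      refine ⟨U', hzU', regUnit t', fun y => ?_⟩
      rw [germOf_regUnit]
      by_cases hy : y.1 = z
      · obtain ⟨y, hy'⟩ := y
        obtain rfl : y = z := hy
        rw [hin _ hz, show Mero.regGerm (⟨y, hy'⟩ : U') t' = b y from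
          Subtype.ext ((hgerm ⟨y, hy'⟩).trans htb)]
      · rw [hout _ fun h => y.2.2 ⟨Or.inr h, hy⟩, eq_comm, QuotientGroup.eq_one_iff]
        have hu : IsUnit (C.presheaf.germ U' y.1 y.2 t'.1) := by
          rw [hgerm]
          exact (C.mem_basicOpen t y.1 y.2.1).1
            (by_contra fun h => y.2.2 ⟨Or.inl ⟨y.2.1, h⟩, hy⟩)
        exact ⟨hu.unit, Units.ext rfl⟩
    · exact ⟨⟨(s : Set C)ᶜ, hsc.isOpen_compl⟩, hz, 1, fun y => by
        rw [hout _ y.2, Mero.germOf, map_one, QuotientGroup.mk_one]⟩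
  refine ⟨⟨e, hloc⟩, fun y => ?_, hout, hin⟩
  by_cases hy : y ∈ s
  · exact ⟨b y, hin y hy⟩
  · refine ⟨1, (hout y hy).trans ?_⟩
    rw [eq_comm, QuotientGroup.eq_one_iff]
    exact ⟨1, Units.ext (by simp)⟩

/-- The support of a divisor is finite and consists of closed points. -/
theorem finite_supp (D : Mero.Divisor C) :
    (Mero.supp D).Finite ∧ ∀ x ∈ Mero.supp D, IsClosed ({x} : Set C) := by
  refine ⟨?_, fun x hx => ?_⟩
  · choose W a b hxW hD using exists_frac_rep D
    obtain ⟨s, hs⟩ := (isCompact_univ (X := C)).elim_finite_subcover (fun x => ((W x).1 : Set C))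
      (fun x => (W x).1.2) fun x _ => Set.mem_iUnion.2 ⟨x, hxW x⟩
    refine ((Finset.finite_toSet s).biUnion fun x _ =>
      (finite_nonunit hC (a x)).union (finite_nonunit hC (b x))).subset fun y hy => ?_
    obtain ⟨x, hxs, hyW⟩ := Set.mem_iUnion₂.1 (hs (Set.mem_univ y))
    refine Set.mem_iUnion₂.2 ⟨x, hxs, ?_⟩
    by_contra h
    simp only [Set.mem_union, Set.mem_ofPred_eq, not_or, not_and, not_not] at h
    refine hy ((hD x ⟨y, hyW⟩).trans ?_)
    rw [germOf_frac, QuotientGroup.eq_one_iff]
    obtain ⟨ua, hua⟩ := (C.mem_basicOpen _ y hyW).1 (h.1 hyW)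
    obtain ⟨ub, hub⟩ := (C.mem_basicOpen _ y hyW).1 (h.2 hyW)
    refine ⟨ua * ub⁻¹, ?_⟩
    rw [map_mul, map_inv]
    refine congrArg₂ (fun p q => p * q⁻¹) (Units.ext ?_) (Units.ext ?_) <;>
      simp only [IsUnit.unit_spec, Units.coe_map]
    · exact congrArg _ hua
    · exact congrArg _ hub
  · obtain ⟨c, hc, hm⟩ := exists_regular_nonunit hx
    exact isClosed_of_regular_nonunit hC hc hm

end Groth.CurveDiv.AbsCurve
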