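import Groth.Agent.RefRank.RelDiv
import Groth.Agent.Ega4Algebra2.SmoothCodim
import Groth.Agent.FibreDim.Smooth
import Groth.Agent.FibreDim.DimStalk
import Groth.Agent.Ega4Algebra1.RegularLocal

/-!
# Ideals with flat quotient in a curve-like local algebra (helper78)
-/

set_option autoImplicit false
set_option linter.style.haveILetI false

universe u

open CategoryTheory CategoryTheory.Limits AlgebraicGeometry IsLocalRing

namespace Groth.CurveDiv

section Alg

variable {R A : Type u} [CommRing R] [CommRing A] [IsLocalRing A] [Algebra R A]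

lemma eq_bot_or_exists_span {m : Ideal R} (hm : m.map (algebraMap R A) ≤ maximalIdeal A)
    (hP : ∀ K : Ideal (A ⧸ m.map (algebraMap R A)), ∃ h, K = Ideal.span {h})
    {J : Ideal A} (hJ : J.FG) [Module.Flat R (A ⧸ J)] :
    J = ⊥ ∨ ∃ h ∈ J, J = Ideal.span {h} ∧ Ideal.Quotient.mk (m.map (algebraMap R A)) h ≠ 0 := by
  set M := m.map (algebraMap R A)
  obtain ⟨hb, hhb⟩ := hP (J.map (Ideal.Quotient.mk M))
  have key : ∀ z ∈ J, z ∈ M → z ∈ maximalIdeal A • J := fun z hz hzM => by
    have h := Groth.Ega4b.mem_mul_of_flat_quotient (Ideal.Quotient.mkₐ R J)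
      Ideal.Quotient.mk_surjective m ⟨RingHom.mem_ker.2 (Ideal.Quotient.eq_zero_iff_mem.2 hz), hzM⟩
    have hk : RingHom.ker (Ideal.Quotient.mkₐ R J) = J := Ideal.mk_ker
    rw [hk] at h
    exact Ideal.mul_mono hm le_rfl h
  by_cases h0 : hb = 0
  · left
    refine Submodule.eq_bot_of_le_smul_of_le_jacobson_bot _ J hJ ?_ (maximalIdeal_le_jacobson _)
    intro z hz
    refine key z hz (Ideal.Quotient.eq_zero_iff_mem.1 ?_)
    have h1 : Ideal.Quotient.mk M z ∈ J.map (Ideal.Quotient.mk M) := Ideal.mem_map_of_mem _ hz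
    rw [hhb, h0, Ideal.span_singleton_eq_bot.2 rfl] at h1
    exact (Submodule.mem_bot _).1 h1
  · right
    have hhbmem : hb ∈ J.map (Ideal.Quotient.mk M) := hhb ▸ Ideal.mem_span_singleton_self hb
    obtain ⟨h, hhJ, rfl⟩ := (Ideal.mem_map_iff_of_surjective _ Ideal.Quotient.mk_surjective).1 hhbmem
    refine ⟨h, hhJ, le_antisymm ?_ ((Ideal.span_singleton_le_iff_mem J).2 hhJ), h0⟩
    refine Submodule.le_of_le_smul_of_le_jacobson_bot hJ (maximalIdeal_le_jacobson _) ?_
    intro z hz
    have h1 : Ideal.Quotient.mk M z ∈ J.map (Ideal.Quotient.mk M) := Ideal.mem_map_of_mem _ hz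
    rw [hhb, Ideal.mem_span_singleton'] at h1
    obtain ⟨c, hc⟩ := h1
    obtain ⟨c, rfl⟩ := Ideal.Quotient.mk_surjective c
    rw [← map_mul, Ideal.Quotient.eq] at hc
    have hch : c * h ∈ Ideal.span {h} := Ideal.mul_mem_left _ c (Ideal.mem_span_singleton_self h)
    have hd : c * h - z ∈ maximalIdeal A • J :=
      key _ (sub_mem (J.mul_mem_left c hhJ) hz) hc
    have : z = c * h - (c * h - z) := by ring
    rw [this]
    exact sub_mem (Submodule.mem_sup_left hch) (Submodule.mem_sup_right hd)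

lemma mk_ne_zero_of_flat {m : Ideal R} (hm : m.map (algebraMap R A) ≤ maximalIdeal A) {g : A}
    (hg : g ≠ 0) [Module.Flat R (A ⧸ Ideal.span {g})] :
    Ideal.Quotient.mk (m.map (algebraMap R A)) g ≠ 0 := by
  intro h0
  refine hg (Ideal.span_singleton_eq_bot.1 ?_)
  refine Submodule.eq_bot_of_le_smul_of_le_jacobson_bot (maximalIdeal A) (Ideal.span {g})
    (Submodule.fg_span_singleton g) ?_ (maximalIdeal_le_jacobson _)
  intro z hz
  have hle : Ideal.span {g} ≤ m.map (algebraMap R A) :=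
    (Ideal.span_singleton_le_iff_mem _).2 (Ideal.Quotient.eq_zero_iff_mem.1 h0)
  have h := Groth.Ega4b.mem_mul_of_flat_quotient (Ideal.Quotient.mkₐ R (Ideal.span {g}))
    Ideal.Quotient.mk_surjective m ⟨RingHom.mem_ker.2 (Ideal.Quotient.eq_zero_iff_mem.2 hz), hle hz⟩
  have hk : RingHom.ker (Ideal.Quotient.mkₐ R (Ideal.span {g})) = Ideal.span {g} := Ideal.mk_ker
  rw [hk] at h
  exact Ideal.mul_mono hm le_rfl h

end Alg

lemma exists_span_of_regular (F : Type u) [CommRing F] [IsRegularLocalRing F]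
    (hdim : ringKrullDim F ≤ 1) :
    IsDomain F ∧ ∀ K : Ideal F, ∃ h, K = Ideal.span {h} := by
  haveI := Groth.Ega4Algebra1.isDomain_of_isRegularLocalRing F
  refine ⟨inferInstance, ?_⟩
  have h1 := IsRegularLocalRing.spanFinrank_maximalIdeal (R := F)
  have hle : (maximalIdeal F).spanFinrank ≤ 1 := by
    rw [← Nat.cast_le (α := WithBot ℕ∞), h1]; exact_mod_cast hdim
  have hp : (maximalIdeal F).IsPrincipal := by
    rcases Nat.le_one_iff_eq_zero_or_eq_one.1 hle with h | h
    · exact ⟨0, by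
        rw [(Submodule.spanFinrank_eq_zero_iff_eq_bot (IsNoetherian.noetherian _)).1 h]; simp⟩
    · obtain ⟨a, ha⟩ := Set.ncard_eq_one.1 ((Submodule.FG.generators_ncard (IsNoetherian.noetherian (maximalIdeal F))).trans h)
      exact ⟨a, by rw [← ha, Submodule.span_generators]⟩
  haveI : IsPrincipalIdealRing F :=
    ((tfae_of_isNoetherianRing_of_isLocalRing_of_isDomain F).out 4 0).mp hp
  exact fun K => ⟨_, (Ideal.span_singleton_generator K).symm⟩

variable {X S : Scheme.{u}} (f : X ⟶ S) [SmoothOfRelativeDimension 1 f]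

include f in
/-- the fibre local rings of a smooth curve are discrete valuation rings or fields -/
lemma fibreRing (x : X) :
    IsDomain (X.presheaf.stalk x ⧸ (maximalIdeal (S.presheaf.stalk (f x))).map (f.stalkMap x).hom) ∧
      (∀ K : Ideal (X.presheaf.stalk x ⧸ (maximalIdeal (S.presheaf.stalk (f x))).map (f.stalkMap x).hom),
        ∃ h, K = Ideal.span {h}) ∧
      ringKrullDim (X.presheaf.stalk x ⧸ (maximalIdeal (S.presheaf.stalk (f x))).map (f.stalkMap x).hom) ≤ 1 := by
  haveI : Smooth f := SmoothOfRelativeDimension.smooth 1 f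
  haveI := Groth.Ega4b.isRegularLocalRing_fiberStalk f x
  obtain ⟨e⟩ := Groth.Ega4b.nonempty_fiberStalk_equiv f x
  haveI := IsRegularLocalRing.of_ringEquiv e.symm
  have hdim : ringKrullDim (X.presheaf.stalk x ⧸
      (maximalIdeal (S.presheaf.stalk (f x))).map (f.stalkMap x).hom) ≤ 1 := by
    rw [ringKrullDim_eq_of_ringEquiv e]
    refine (Groth.FibreDim.ringKrullDim_fiber_stalk_le f x).trans ?_
    exact (Groth.FibreDim.fibreDimAt_eq_of_smoothOfRelativeDimension 1 f x).le
  obtain ⟨h1, h2⟩ := exists_span_of_regular _ hdim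
  exact ⟨h1, h2, hdim⟩

end Groth.CurveDiv
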