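import Groth.Agent.CurveDiv.Sum
import Groth.Agent.Divisors.EffCartierMore

/-!
# Differences of relative divisors on smooth curves (helper78)
-/

set_option autoImplicit false

universe u

open CategoryTheory CategoryTheory.Limits AlgebraicGeometry

namespace Groth.CurveDiv

open Groth.Divisors

variable {X S : Scheme.{u}} (f : X ⟶ S) [SmoothOfRelativeDimension 1 f]

omit f [SmoothOfRelativeDimension 1 f] in
lemma eq_of_mul_eq {I J J' : X.IdealSheafData} (hI : BlowUp.IsEffCartierIdeal I)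
    (h : I * J = I * J') : J = J' := by
  refine ext_of_cover fun x => ?_
  obtain ⟨W, hxW, a, ha, hIa⟩ := hI x
  refine ⟨W, hxW, ?_⟩
  have h1 := congrArg (fun K : X.IdealSheafData => K.ideal W) h
  simp only [Scheme.IdealSheafData.ideal_mul, Pi.mul_apply, hIa] at h1
  have key : ∀ K K' : Ideal Γ(X, W.1), Ideal.span {a} * K = Ideal.span {a} * K' → K ≤ K' := by
    intro K K' hK k hk
    obtain ⟨k', hk', he⟩ := Ideal.mem_span_singleton_mul.1
      (hK ▸ Ideal.mul_mem_mul (Ideal.mem_span_singleton_self a) hk)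
    rwa [(mul_cancel_left_mem_nonZeroDivisors ha).1 he] at hk'
  exact le_antisymm (key _ _ h1) (key _ _ h1.symm)

include f in
lemma isEffCartierIdeal_of_finLocFree {I : X.IdealSheafData}
    (h : Mor2.IsFinLocFree (I.subschemeι ≫ f)) : BlowUp.IsEffCartierIdeal I := by
  obtain ⟨h1, h2, h3⟩ := h
  exact isEffCartierIdeal_of_lqf f

include f in
/-- the difference of two relative divisors on a smooth curve -/
theorem exists_sub {I₁ I₂ : X.IdealSheafData} (hle : I₂ ≤ I₁) {d₁ d₂ : ℕ}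
    (h₁ : Mor2.IsFinLocFreeOfDeg d₁ (I₁.subschemeι ≫ f))
    (h₂ : Mor2.IsFinLocFreeOfDeg d₂ (I₂.subschemeι ≫ f)) :
    ∃ I : X.IdealSheafData, Mor2.IsFinLocFreeOfDeg (d₂ - d₁) (I.subschemeι ≫ f) ∧ I₂ = I₁ * I := by
  have hc₁ := isEffCartierIdeal_of_finLocFree f h₁.1
  have hc₂ := isEffCartierIdeal_of_finLocFree f h₂.1
  obtain ⟨L, hL⟩ := Groth.BlowUpBasics.exists_eq_mul_of_le hc₁ hle
  rw [mul_comm] at hL
  subst hL
  have hLc : BlowUp.IsEffCartierIdeal L := (isEffCartierIdeal_factors hc₂).2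
  haveI := Groth.RefRank.RelDiv.flat_right_of_mul f hc₁ hLc h₁.1.2.1 h₂.1.2.1
  haveI := lfp_of_isEffCartierIdeal f hLc
  have hle' : I₁ * L ≤ L := fun U => by
    simp only [Scheme.IdealSheafData.ideal_mul, Pi.mul_apply]; exact Ideal.mul_le_right
  haveI : IsFinite ((I₁ * L).subschemeι ≫ f) := h₂.1.1
  haveI : IsFinite (L.subschemeι ≫ f) := by
    rw [← Scheme.IdealSheafData.inclusion_subschemeι_assoc hle' f]
    infer_instance
  have hLf : Mor2.IsFinLocFree (L.subschemeι ≫ f) := ⟨inferInstance, inferInstance, inferInstance⟩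
  refine ⟨L, ⟨hLf, fun y => ?_⟩, rfl⟩
  have := (isFinLocFree_mul f h₁.1 hLf).2 y
  rw [h₂.2 y, h₁.2 y] at this
  omega

end Groth.CurveDiv
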