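import Groth.Agent.CurveDiv.Diff
import Groth.Prelude.Def_W4c6dblnestedhilbptsFlags

/-!
# Flags of relative divisors and their edge data (helper78)
-/

set_option autoImplicit false
set_option linter.style.haveILetI false

universe u

open CategoryTheory CategoryTheory.Limits AlgebraicGeometry HilbD

namespace Groth.CurveDiv

variable {X S : Scheme.{u}} (f : X ⟶ S) [SmoothOfRelativeDimension 1 f]

omit [SmoothOfRelativeDimension 1 f] in
include f in
lemma eq_top_of_deg_zero {L : X.IdealSheafData}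
    (h : Mor2.IsFinLocFreeOfDeg 0 (L.subschemeι ≫ f)) : L = ⊤ := by
  obtain ⟨⟨h1, h2, h3⟩, h4⟩ := h
  refine Groth.Divisors.ext_of_cover fun x => ?_
  obtain ⟨W, hxW, -⟩ := Groth.Divisors.exists_affine_le x ⊤ trivial
  refine ⟨W, hxW, ?_⟩
  rw [ideal_eq_top_of_notMem fun y _ hy => ?_]
  · simp
  · obtain ⟨z, -⟩ := (Set.ext_iff.1 L.range_subschemeι y).2 hy
    have := Scheme.Hom.one_le_finrank_map (L.subschemeι ≫ f) z
    rw [h4] at this
    exact Nat.not_succ_le_zero _ this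

include f in
lemma eq_of_le_of_deg {I J : X.IdealSheafData} (hle : I ≤ J) {d : ℕ} (hI : IsDivOfDeg f d I)
    (hJ : IsDivOfDeg f d J) : I = J := by
  obtain ⟨L, hL, hIL⟩ := exists_sub f hle hJ hI
  rw [Nat.sub_self] at hL
  rw [hIL, eq_top_of_deg_zero f hL, ← Scheme.IdealSheafData.one_eq_top, mul_one]

include f in
lemma cancel {d : ℕ} {I J J' : X.IdealSheafData} (hI : IsDivOfDeg f d I) (h : I * J = I * J') :
    J = J' :=
  eq_of_mul_eq (isEffCartierIdeal_of_finLocFree f hI.1) h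

omit [SmoothOfRelativeDimension 1 f] in
lemma mul_le_left' (I J : X.IdealSheafData) : I * J ≤ I := fun U => by
  simp only [Scheme.IdealSheafData.ideal_mul, Pi.mul_apply]; exact Ideal.mul_le_left

variable {μ : YoungDiagram}

/-- the divisor of a cell, built from the edge data along the first column and the row of the cell -/
noncomputable def cellIdeal (E : DnEdgeData μ X) : ∀ i j : ℕ, (i, j) ∈ μ → X.IdealSheafData
  | 0, 0, _ => E.base
  | i + 1, 0, h => cellIdeal E i 0 (mem_up h) * E.vert (i + 1, 0) h (Nat.le_add_left 1 i)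
  | i, j + 1, h => cellIdeal E i j (mem_left h) * E.horiz (i, j + 1) h (Nat.le_add_left 1 j)
  termination_by i j => (j, i)

lemma cellIdeal_zero (E : DnEdgeData μ X) (h : ((0, 0) : ℕ × ℕ) ∈ μ) : cellIdeal E 0 0 h = E.base := by
  rw [cellIdeal]

lemma cellIdeal_up (E : DnEdgeData μ X) (i : ℕ) (h : ((i + 1, 0) : ℕ × ℕ) ∈ μ) :
    cellIdeal E (i + 1) 0 h =
      cellIdeal E i 0 (mem_up h) * E.vert (i + 1, 0) h (Nat.le_add_left 1 i) := by
  rw [cellIdeal]

lemma cellIdeal_left (E : DnEdgeData μ X) (i j : ℕ) (h : ((i, j + 1) : ℕ × ℕ) ∈ μ) :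
    cellIdeal E i (j + 1) h =
      cellIdeal E i j (mem_left h) * E.horiz (i, j + 1) h (Nat.le_add_left 1 j) := by
  rw [cellIdeal]

variable {n : ℕ × ℕ → ℕ}

include f in
lemma gamma_deg (hn : IsRevPlanePartition μ n) (E : DnEdgeData μ X) (hE : E.IsOfType f n)
    (i j : ℕ) (h : ((i + 1, j + 1) : ℕ × ℕ) ∈ μ) :
    IsDivOfDeg f (n (i + 1, j + 1) - n (i, j))
        (E.gammaOne (i + 1, j + 1) h (Nat.le_add_left 1 i) (Nat.le_add_left 1 j)) ∧
      IsDivOfDeg f (n (i + 1, j + 1) - n (i, j))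
        (E.gammaTwo (i + 1, j + 1) h (Nat.le_add_left 1 i) (Nat.le_add_left 1 j)) := by
  obtain ⟨-, hv, hh⟩ := hE
  have hup : ((i, j + 1) : ℕ × ℕ) ∈ μ := mem_up h
  have hleft : ((i + 1, j) : ℕ × ℕ) ∈ μ := mem_left h
  have hd : ((i, j) : ℕ × ℕ) ∈ μ := mem_left hup
  have a₁ : n (i, j + 1) ≤ n (i + 1, j + 1) := hn hup h ⟨Nat.le_succ i, le_rfl⟩
  have a₂ : n (i + 1, j) ≤ n (i + 1, j + 1) := hn hleft h ⟨le_rfl, Nat.le_succ j⟩
  have a₃ : n (i, j) ≤ n (i, j + 1) := hn hd hup ⟨le_rfl, Nat.le_succ j⟩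
  have a₄ : n (i, j) ≤ n (i + 1, j) := hn hd hleft ⟨Nat.le_succ i, le_rfl⟩
  constructor
  · have := isFinLocFreeOfDeg_mul f (hv _ h (Nat.le_add_left 1 i)) (hh _ hup (Nat.le_add_left 1 j))
    simp only [Nat.add_sub_cancel] at this
    rw [show n (i + 1, j + 1) - n (i, j) =
      (n (i + 1, j + 1) - n (i, j + 1)) + (n (i, j + 1) - n (i, j)) by omega]
    exact this
  · have := isFinLocFreeOfDeg_mul f (hh _ h (Nat.le_add_left 1 j)) (hv _ hleft (Nat.le_add_left 1 i))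
    simp only [Nat.add_sub_cancel] at this
    rw [show n (i + 1, j + 1) - n (i, j) =
      (n (i + 1, j + 1) - n (i + 1, j)) + (n (i + 1, j) - n (i, j)) by omega]
    exact this

include f in
/-- every flag has exactly one edge data, and it commutes -/
theorem existsUnique_edgeData (h00 : ((0, 0) : ℕ × ℕ) ∈ μ)
    (Z : ∀ c : ℕ × ℕ, c ∈ μ → X.IdealSheafData) (hZ : IsDnFlag f μ n Z) :
    (∃! E : DnEdgeData μ X, E.IsOfType f n ∧ E.IsEdgesOf h00 Z) ∧
      ∀ E : DnEdgeData μ X, E.IsOfType f n → E.IsEdgesOf h00 Z →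
        ∀ (c : ℕ × ℕ) (hc : c ∈ μ) (hi : 1 ≤ c.1) (hj : 1 ≤ c.2),
          E.gammaOne c hc hi hj = E.gammaTwo c hc hi hj := by
  obtain ⟨hdiv, hmono⟩ := hZ
  refine ⟨?_, ?_⟩
  · have hv : ∀ (c : ℕ × ℕ) (hc : c ∈ μ) (_ : 1 ≤ c.1), ∃ I : X.IdealSheafData,
        IsDivOfDeg f (n c - n (c.1 - 1, c.2)) I ∧ Z c hc = Z (c.1 - 1, c.2) (mem_up hc) * I :=
      fun c hc _ => exists_sub f (hmono _ _ (mem_up hc) hc ⟨Nat.sub_le c.1 1, le_rfl⟩)
        (hdiv _ (mem_up hc)) (hdiv c hc)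
    have hh : ∀ (c : ℕ × ℕ) (hc : c ∈ μ) (_ : 1 ≤ c.2), ∃ I : X.IdealSheafData,
        IsDivOfDeg f (n c - n (c.1, c.2 - 1)) I ∧ Z c hc = Z (c.1, c.2 - 1) (mem_left hc) * I :=
      fun c hc _ => exists_sub f (hmono _ _ (mem_left hc) hc ⟨le_rfl, Nat.sub_le c.2 1⟩)
        (hdiv _ (mem_left hc)) (hdiv c hc)
    choose v hvd hve using hv
    choose w hwd hwe using hh
    refine ⟨⟨Z (0, 0) h00, v, w⟩, ⟨⟨hdiv _ h00, hvd, hwd⟩, rfl, hve, hwe⟩, ?_⟩
    rintro ⟨b', v', w'⟩ ⟨-, hb, hv', hw'⟩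
    have e₂ : v' = v := by
      funext c hc hi
      exact cancel f (hdiv _ (mem_up hc)) ((hv' c hc hi).symm.trans (hve c hc hi))
    have e₃ : w' = w := by
      funext c hc hj
      exact cancel f (hdiv _ (mem_left hc)) ((hw' c hc hj).symm.trans (hwe c hc hj))
    subst e₂ e₃
    exact congrArg (fun b => (⟨b, v', w'⟩ : DnEdgeData μ X)) hb.symm
  · rintro E - ⟨-, hv, hh⟩ ⟨i', j'⟩ hc hi hj
    obtain ⟨i, rfl⟩ : ∃ i, i' = i + 1 := ⟨i' - 1, (Nat.sub_add_cancel hi).symm⟩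
    obtain ⟨j, rfl⟩ : ∃ j, j' = j + 1 := ⟨j' - 1, (Nat.sub_add_cancel hj).symm⟩
    have hup : ((i, j + 1) : ℕ × ℕ) ∈ μ := mem_up hc
    have hleft : ((i + 1, j) : ℕ × ℕ) ∈ μ := mem_left hc
    have hd : ((i, j) : ℕ × ℕ) ∈ μ := mem_left hup
    refine cancel f (hdiv (i, j) hd) ?_
    have h1 : Z (i + 1, j + 1) hc = Z (i, j + 1) hup * E.vert (i + 1, j + 1) hc hi := hv _ hc hi
    have h2 : Z (i + 1, j + 1) hc = Z (i + 1, j) hleft * E.horiz (i + 1, j + 1) hc hj := hh _ hc hj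
    have h3 : Z (i, j + 1) hup = Z (i, j) hd * E.horiz (i, j + 1) hup hj := hh _ hup hj
    have h4 : Z (i + 1, j) hleft = Z (i, j) hd * E.vert (i + 1, j) hleft hi := hv _ hleft hi
    rw [h3, mul_assoc] at h1
    rw [h4, mul_assoc] at h2
    show Z (i, j) hd * (E.vert (i + 1, j + 1) hc hi * E.horiz (i, j + 1) hup hj) =
      Z (i, j) hd * (E.horiz (i + 1, j + 1) hc hj * E.vert (i + 1, j) hleft hi)
    rw [mul_comm (E.vert (i + 1, j + 1) hc hi), mul_comm (E.horiz (i + 1, j + 1) hc hj), ← h1, ← h2]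

include f in
/-- commuting edge data comes from exactly one flag -/
theorem existsUnique_flag (hn : IsRevPlanePartition μ n) (h00 : ((0, 0) : ℕ × ℕ) ∈ μ)
    (E : DnEdgeData μ X) (hE : E.IsOfType f n)
    (hcomm : ∀ (c : ℕ × ℕ) (hc : c ∈ μ) (hi : 1 ≤ c.1) (hj : 1 ≤ c.2),
      E.gammaOne c hc hi hj ≤ E.gammaTwo c hc hi hj) :
    ∃! Z : ∀ c : ℕ × ℕ, c ∈ μ → X.IdealSheafData, IsDnFlag f μ n Z ∧ E.IsEdgesOf h00 Z := by
  have hsq : ∀ i j (h : ((i + 1, j + 1) : ℕ × ℕ) ∈ μ),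
      E.gammaOne (i + 1, j + 1) h (Nat.le_add_left 1 i) (Nat.le_add_left 1 j) =
        E.gammaTwo (i + 1, j + 1) h (Nat.le_add_left 1 i) (Nat.le_add_left 1 j) := fun i j h =>
    eq_of_le_of_deg f (hcomm _ _ _ _) (gamma_deg f hn E hE i j h).1 (gamma_deg f hn E hE i j h).2
  have hvert : ∀ j i (h : ((i + 1, j) : ℕ × ℕ) ∈ μ), cellIdeal E (i + 1) j h =
      cellIdeal E i j (mem_up h) * E.vert (i + 1, j) h (Nat.le_add_left 1 i) := by
    intro j
    induction j with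
    | zero => exact fun i h => cellIdeal_up E i h
    | succ j ih =>
      intro i h
      rw [cellIdeal_left E (i + 1) j h, ih i (mem_left h)]
      refine (mul_assoc _ _ _).trans ?_
      rw [cellIdeal_left E i j (mem_up h)]
      refine Eq.trans ?_ (mul_assoc _ _ _).symm
      refine congrArg (_ * ·) ?_
      refine (mul_comm _ _).trans ((hsq i j h).symm.trans (mul_comm _ _))
  let Z : ∀ c : ℕ × ℕ, c ∈ μ → X.IdealSheafData := fun c hc => cellIdeal E c.1 c.2 hc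
  have hdeg : ∀ j i (h : ((i, j) : ℕ × ℕ) ∈ μ), IsDivOfDeg f (n (i, j)) (cellIdeal E i j h) := by
    intro j
    induction j with
    | zero =>
      intro i
      induction i with
      | zero => intro h; rw [cellIdeal_zero]; exact hE.1
      | succ i ih =>
        intro h
        rw [cellIdeal_up]
        have := isFinLocFreeOfDeg_mul f (ih (mem_up h)) (hE.2.1 _ h (Nat.le_add_left 1 i))
        simp only [Nat.add_sub_cancel] at this
        have hb : n (i, 0) ≤ n (i + 1, 0) := hn (mem_up h) h ⟨Nat.le_succ i, le_rfl⟩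
        rwa [Nat.add_sub_cancel' hb] at this
    | succ j ih =>
      intro i h
      rw [cellIdeal_left]
      have := isFinLocFreeOfDeg_mul f (ih i (mem_left h)) (hE.2.2 _ h (Nat.le_add_left 1 j))
      simp only [Nat.add_sub_cancel] at this
      have hb : n (i, j) ≤ n (i, j + 1) := hn (mem_left h) h ⟨le_rfl, Nat.le_succ j⟩
      rwa [Nat.add_sub_cancel' hb] at this
  have hrow : ∀ i j j', j ≤ j' → ∀ (h : ((i, j) : ℕ × ℕ) ∈ μ) (h' : ((i, j') : ℕ × ℕ) ∈ μ),
      cellIdeal E i j' h' ≤ cellIdeal E i j h := by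
    intro i j j' hle
    induction j', hle using Nat.le_induction with
    | base => exact fun _ _ => le_rfl
    | succ j' hle ih =>
      intro h h'
      rw [cellIdeal_left]
      exact (mul_le_left' _ _).trans (ih h (mem_left h'))
  have hcol : ∀ j i i', i ≤ i' → ∀ (h : ((i, j) : ℕ × ℕ) ∈ μ) (h' : ((i', j) : ℕ × ℕ) ∈ μ),
      cellIdeal E i' j h' ≤ cellIdeal E i j h := by
    intro j i i' hle
    induction i', hle using Nat.le_induction with
    | base => exact fun _ _ => le_rfl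
    | succ i' hle ih =>
      intro h h'
      rw [hvert]
      exact (mul_le_left' _ _).trans (ih h (mem_up h'))
  refine ⟨Z, ⟨⟨fun c hc => hdeg c.2 c.1 hc, fun c c' hc hc' hle => ?_⟩, cellIdeal_zero E h00, ?_, ?_⟩, ?_⟩
  · have hm : ((c'.1, c.2) : ℕ × ℕ) ∈ μ := μ.isLowerSet (show (c'.1, c.2) ≤ c' from ⟨le_rfl, hle.2⟩) hc'
    exact (hrow c'.1 c.2 c'.2 hle.2 hm hc').trans (hcol c.2 c.1 c'.1 hle.1 hc hm)
  · rintro ⟨i', j⟩ hc hi
    obtain ⟨i, rfl⟩ : ∃ i, i' = i + 1 := ⟨i' - 1, (Nat.sub_add_cancel hi).symm⟩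
    exact hvert j i hc
  · rintro ⟨i, j'⟩ hc hj
    obtain ⟨j, rfl⟩ : ∃ j, j' = j + 1 := ⟨j' - 1, (Nat.sub_add_cancel hj).symm⟩
    exact cellIdeal_left E i j hc
  · rintro Z' ⟨-, hb, hv, hh⟩
    have key : ∀ j i (h : ((i, j) : ℕ × ℕ) ∈ μ), Z' (i, j) h = cellIdeal E i j h := by
      intro j
      induction j with
      | zero =>
        intro i
        induction i with
        | zero => intro h; rw [cellIdeal_zero]; exact hb
        | succ i ih =>
          intro h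
          rw [cellIdeal_up, ← ih (mem_up h)]
          exact hv _ h (Nat.le_add_left 1 i)
      | succ j ih =>
        intro i h
        rw [cellIdeal_left, ← ih i (mem_left h)]
        exact hh _ h (Nat.le_add_left 1 j)
    funext c hc
    exact key c.2 c.1 hc

end Groth.CurveDiv
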