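import Groth.Agent.FlatMorOne.FlatLocusModelFlat
import Groth.Agent.FlatMorOne.FlatStageRing
import Groth.Agent.RefRank.RelDivAlg

/-!
# Flatness along a relative effective Cartier divisor, without Noetherian hypotheses (helper78)
-/

set_option autoImplicit false
set_option linter.style.haveILetI false

universe u

open TensorProduct

namespace Groth.CurveDiv

open Groth.FlatMorOne

attribute [local instance] Algebra.TensorProduct.rightAlgebra

/-- the quotient by a principal ideal commutes with change of algebra -/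
noncomputable def tensorQuotSpan {A B : Type u} [CommRing A] [CommRing B] [Algebra A B] (y : A) :
    B ⊗[A] (A ⧸ Ideal.span {y}) ≃ₗ[B] B ⧸ Ideal.span {algebraMap A B y} :=
  LinearEquiv.ofLinearMap
    ((Submodule.liftQ (Ideal.span {y}) ((Submodule.mkQ (Ideal.span {algebraMap A B y})).restrictScalars A ∘ₗ
      Algebra.linearMap A B) (by
        rw [Ideal.span, Submodule.span_singleton_le_iff_mem, LinearMap.mem_ker]
        exact (Submodule.Quotient.mk_eq_zero _).2 (Ideal.mem_span_singleton_self _))).liftBaseChange B)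
    (Submodule.liftQ _ (LinearMap.toSpanSingleton B _ ((1 : B) ⊗ₜ[A] (1 : A ⧸ Ideal.span {y}))) (by
      rw [Ideal.span, Submodule.span_singleton_le_iff_mem, LinearMap.mem_ker,
        LinearMap.toSpanSingleton_apply, algebraMap_smul, smul_tmul', smul_tmul,
        Algebra.smul_def, mul_one]
      rw [show (algebraMap A (A ⧸ Ideal.span {y})) y = 0 from
        Ideal.Quotient.eq_zero_iff_mem.2 (Ideal.mem_span_singleton_self y), tmul_zero]))
    (by
      refine Submodule.linearMap_qext _ (LinearMap.ext_ring ?_)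
      simp only [LinearMap.comp_apply, LinearMap.id_apply, Submodule.mkQ_apply, Submodule.liftQ_apply,
        LinearMap.toSpanSingleton_apply, one_smul, LinearMap.liftBaseChange_tmul]
      exact congrArg Submodule.Quotient.mk (map_one (algebraMap A B)))
    (by
      refine TensorProduct.AlgebraTensorModule.ext fun b m => ?_
      obtain ⟨a, rfl⟩ := Submodule.Quotient.mk_surjective _ m
      simp only [LinearMap.comp_apply, LinearMap.liftBaseChange_tmul, map_smul, Submodule.liftQ_apply,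
        LinearMap.id_apply]
      show b • (algebraMap A B a) • ((1 : B) ⊗ₜ[A] (1 : A ⧸ Ideal.span {y})) = _
      rw [smul_smul, smul_tmul', smul_eq_mul, mul_one, mul_comm, ← Algebra.smul_def, smul_tmul,
        Algebra.smul_def, mul_one]
      rfl)

section Final

variable {B R SB S : Type u} [CommRing B] [CommRing R] [Algebra B R] [CommRing SB] [Algebra B SB]
  [CommRing S] [Algebra R S] [Algebra SB S] [Algebra B S] [IsScalarTower B R S] [IsScalarTower B SB S]
  [hpush : Algebra.IsPushout B R SB S] [IsNoetherianRing SB]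

include hpush in
/-- the Noetherian stage -/
theorem flat_of_noetherian_stage (g : SB) (hg : g ∈ nonZeroDivisors SB)
    [Module.Flat B (SB ⧸ Ideal.span {g})] (q : Ideal S) [q.IsPrime] (hgq : algebraMap SB S g ∈ q) :
    Module.Flat R (LocalizedModule q.primeCompl S) := by
  let p := q.comap (algebraMap SB S)
  let L := Localization.AtPrime p
  let gL : L := algebraMap SB L g
  haveI : IsNoetherianRing L := IsLocalization.isNoetherianRing p.primeCompl L inferInstance
  haveI : IsLocalization (Algebra.algebraMapSubmonoid (SB ⧸ Ideal.span {g}) p.primeCompl)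
      (L ⧸ (Ideal.span {g}).map (algebraMap SB L)) := inferInstance
  haveI : Module.Flat (SB ⧸ Ideal.span {g}) (L ⧸ (Ideal.span {g}).map (algebraMap SB L)) :=
    IsLocalization.flat _ (Algebra.algebraMapSubmonoid (SB ⧸ Ideal.span {g}) p.primeCompl)
  haveI : IsScalarTower B (SB ⧸ Ideal.span {g}) (L ⧸ (Ideal.span {g}).map (algebraMap SB L)) :=
    IsScalarTower.of_algebraMap_eq fun b => by
      show Ideal.Quotient.mk _ (algebraMap B L b) = Ideal.Quotient.mk _ (algebraMap SB L (algebraMap B SB b))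
      rw [← IsScalarTower.algebraMap_apply]
  have h0 : Module.Flat B (L ⧸ (Ideal.span {g}).map (algebraMap SB L)) :=
    Module.Flat.trans B (SB ⧸ Ideal.span {g}) _
  rw [Ideal.map_span, Set.image_singleton] at h0
  haveI := h0
  have hgL : gL ∈ nonZeroDivisors L :=
    IsLocalization.map_nonZeroDivisors_le p.primeCompl L ⟨g, hg, rfl⟩
  have hgm : gL ∈ IsLocalRing.maximalIdeal L :=
    (IsLocalization.AtPrime.to_map_mem_maximal_iff L p g).2 hgq
  haveI : Module.Flat B L := Groth.RefRank.RelDiv.flat_of_flat_quotient hgL hgm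
  haveI : Module.Flat B (LocalizedModule (q.comap (algebraMap SB S)).primeCompl SB) := ‹Module.Flat B L›
  exact flat_localized_baseChange (B := B) (algebraMap SB S)
    (β := (IsScalarTower.toAlgHom B SB S).toLinearMap) hpush.out (fun s m => map_mul (algebraMap SB S) s m) q

end Final

variable {R S : Type u} [CommRing R] [CommRing S] [Algebra R S]

lemma flat_quotient_baseChange {R₁ S₁ : Type u} [CommRing R₁] [CommRing S₁] [Algebra R₁ S₁] (g : S₁)
    [Module.Flat R₁ (S₁ ⧸ Ideal.span {g})] (B : Type u) [CommRing B] [Algebra R₁ B] :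
    Module.Flat B (SOf R₁ S₁ B ⧸ Ideal.span {algebraMap S₁ (SOf R₁ S₁ B) g}) := by
  haveI : Module.Flat B (MOf R₁ S₁ (S₁ ⧸ Ideal.span {g}) B) :=
    Module.Flat.of_linearEquiv (isBaseChange_betaOf R₁ S₁ (S₁ ⧸ Ideal.span {g}) B).equiv.symm
  exact Module.Flat.of_linearEquiv ((tensorQuotSpan (B := SOf R₁ S₁ B) g).restrictScalars B).symm

lemma flat_of_MOf {R₁ S₁ : Type u} [CommRing R₁] [CommRing S₁] [Algebra R₁ S₁] (g : S₁)
    (B : Type u) [CommRing B] [Algebra R₁ B] [Module.Flat B (MOf R₁ S₁ (S₁ ⧸ Ideal.span {g}) B)] :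
    Module.Flat B (SOf R₁ S₁ B ⧸ Ideal.span {algebraMap S₁ (SOf R₁ S₁ B) g}) :=
  Module.Flat.of_linearEquiv ((tensorQuotSpan (B := SOf R₁ S₁ B) g).restrictScalars B).symm

lemma mem_nonZeroDivisors_of_killed {R₁ S₁ : Type u} [CommRing R₁] [CommRing S₁] [Algebra R₁ S₁] (g : S₁)
    [Module.Flat R₁ (S₁ ⧸ Ideal.span {g})] (B : Type u) [CommRing B] [Algebra R₁ B]
    (hzB : ∀ k : S₁, g * k = 0 → ((1 : B) ⊗ₜ[R₁] k : B ⊗[R₁] S₁) = 0) :
    algebraMap S₁ (SOf R₁ S₁ B) g ∈ nonZeroDivisors (SOf R₁ S₁ B) := by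
  let φ : S₁ →ₗ[S₁] S₁ := LinearMap.mulLeft S₁ g
  have hmul : ∀ z : B ⊗[R₁] S₁, (φ.restrictScalars R₁).lTensor B z = ((1 : B) ⊗ₜ[R₁] g) * z := by
    intro z
    induction z using TensorProduct.induction_on with
    | zero => simp
    | tmul b s =>
      show b ⊗ₜ[R₁] (g * s) = ((1 : B) ⊗ₜ[R₁] g) * (b ⊗ₜ[R₁] s)
      rw [Algebra.TensorProduct.tmul_mul_tmul, one_mul]
    | add x y hx hy => rw [map_add, hx, hy, mul_add]
  let π : S₁ →ₗ[S₁] S₁ ⧸ Ideal.span {g} := Submodule.mkQ (Ideal.span {g})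
  have he : Function.Exact φ π := fun s => by
    show Submodule.Quotient.mk s = 0 ↔ _
    rw [Submodule.Quotient.mk_eq_zero, Ideal.mem_span_singleton']
    exact ⟨fun ⟨c, hc⟩ => ⟨c, by simp [φ, mul_comm g c, hc]⟩, fun ⟨c, hc⟩ => ⟨c, by simpa [φ, mul_comm c g] using hc⟩⟩
  refine mem_nonZeroDivisors_iff_right.2 fun z hz => ?_
  obtain ⟨w, rfl⟩ := mem_range_lTensor_ker φ π (Submodule.mkQ_surjective _) he B z
    (by rw [hmul, mul_comm]; exact hz)
  clear hz
  induction w using TensorProduct.induction_on with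
  | zero => exact map_zero _
  | tmul b k =>
    rw [LinearMap.lTensor_tmul]
    have h1 : (b ⊗ₜ[R₁] (k : S₁) : B ⊗[R₁] S₁) = (b ⊗ₜ[R₁] (1 : S₁)) * ((1 : B) ⊗ₜ[R₁] (k : S₁)) := by
      rw [Algebra.TensorProduct.tmul_mul_tmul, mul_one, one_mul]
    exact h1.trans (by rw [hzB _ k.2, mul_zero])
  | add x y hx hy => rw [map_add, hx, hy, add_zero]

set_option synthInstance.maxHeartbeats 100000 in
/-- second step: kill the annihilator of the equation -/
theorem flat_of_model {R₁ S₁ : Type u} [CommRing R₁] [IsNoetherianRing R₁] [Algebra R₁ R] [CommRing S₁]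
    [Algebra R₁ S₁] [Algebra.FiniteType R₁ S₁] [Algebra S₁ S] [Algebra R₁ S] [IsScalarTower R₁ R S]
    [IsScalarTower R₁ S₁ S] [hpush : Algebra.IsPushout R₁ R S₁ S] (g : S₁)
    [Module.Flat R₁ (S₁ ⧸ Ideal.span {g})] (hg : algebraMap S₁ S g ∈ nonZeroDivisors S)
    (q : Ideal S) [q.IsPrime] (hgq : algebraMap S₁ S g ∈ q) :
    Module.Flat R (LocalizedModule q.primeCompl S) := by
  classical
  haveI : IsNoetherianRing S₁ := Algebra.FiniteType.isNoetherianRing R₁ S₁
  obtain ⟨G, hG⟩ : (LinearMap.ker (LinearMap.mulLeft S₁ g)).FG := IsNoetherian.noetherian _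
  have hbot : (⊥ : Subalgebra R₁ R).FG := Subalgebra.fg_bot
  have hkill : ∀ k : G, ∃ (B : Subalgebra R₁ R), B.FG ∧ ((1 : B) ⊗ₜ[R₁] k.1 : B ⊗[R₁] S₁) = 0 := by
    intro k
    have hk : g * k.1 = 0 := hG.le (Submodule.subset_span k.2)
    have h0 : algebraMap S₁ S k.1 = 0 :=
      mem_nonZeroDivisors_iff_right.1 hg _ (by rw [← map_mul, mul_comm, hk, map_zero])
    have hx : sMap R₁ S₁ (⊥ : Subalgebra R₁ R).val ((1 : (⊥ : Subalgebra R₁ R)) ⊗ₜ[R₁] k.1) = 0 := by
      refine (pushoutAlgEquiv R₁ R S₁ S).injective ?_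
      rw [sMap_tmul, map_zero, map_one, pushoutAlgEquiv_tmul, map_one, one_mul, h0]
    obtain ⟨B, hle, hB, hB0⟩ := exists_sMap_eq_zero hbot hx
    rw [sMap_tmul, map_one] at hB0
    exact ⟨B, hB, hB0⟩
  choose Bk hBk hzero using hkill
  obtain ⟨B, hB, hle⟩ : ∃ B : Subalgebra R₁ R, B.FG ∧ ∀ k, Bk k ≤ B :=
    ⟨Finset.univ.sup Bk, Finset.sup_induction hbot (fun _ ha _ hb => Subalgebra.FG.sup ha hb) fun k _ => hBk k,
      fun k => Finset.le_sup (Finset.mem_univ k)⟩
  have hzB : ∀ k : S₁, g * k = 0 → ((1 : B) ⊗ₜ[R₁] k : B ⊗[R₁] S₁) = 0 := by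
    intro k hk
    have hk' : k ∈ Submodule.span S₁ (G : Set S₁) := hG.ge hk
    clear hk
    induction hk' using Submodule.span_induction with
    | mem z hz =>
      have := congrArg (sMap R₁ S₁ (Subalgebra.inclusion (hle ⟨z, hz⟩))) (hzero ⟨z, hz⟩)
      rwa [sMap_tmul, map_one, map_zero] at this
    | zero => exact tmul_zero _ _
    | add x y _ _ hx hy => rw [tmul_add, hx, hy, add_zero]
    | smul c x _ hx =>
      have : ((1 : B) ⊗ₜ[R₁] (c • x) : B ⊗[R₁] S₁) = ((1 : B) ⊗ₜ[R₁] c) * ((1 : B) ⊗ₜ[R₁] x) := by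
        rw [Algebra.TensorProduct.tmul_mul_tmul, one_mul, smul_eq_mul]
      rw [this, hx, mul_zero]
  haveI : IsNoetherianRing B := isNoetherianRing_of_fg hB
  haveI : IsNoetherianRing (SOf R₁ S₁ B) := Algebra.FiniteType.isNoetherianRing B (B ⊗[R₁] S₁)
  haveI := flat_quotient_baseChange (R₁ := R₁) g B
  have hgB := mem_nonZeroDivisors_of_killed (R₁ := R₁) g B hzB
  letI : Algebra (SOf R₁ S₁ B) S := (stageAlgHom R₁ R S₁ S B).toRingHom.toAlgebra
  haveI : IsScalarTower B (SOf R₁ S₁ B) S := IsScalarTower.of_algebraMap_eq fun a => by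
    show _ = stageAlgHom R₁ R S₁ S B (a ⊗ₜ 1)
    simp only [stageAlgHom, AlgHom.comp_apply, sMap_tmul, AlgEquiv.coe_toAlgHom, pushoutAlgEquiv_tmul,
      map_one, mul_one]
    rfl
  haveI : Algebra.IsPushout B R (SOf R₁ S₁ B) S :=
    isPushout_stage (R₀ := R₁) (R := R) (S₀ := S₁) (S := S) B (fun _ => rfl)
  have hgS : algebraMap (SOf R₁ S₁ B) S (algebraMap S₁ (SOf R₁ S₁ B) g) = algebraMap S₁ S g :=
    (stageAlgHom R₁ R S₁ S B).commutes g
  exact flat_of_noetherian_stage (B := B) (R := R) (SB := SOf R₁ S₁ B) (algebraMap S₁ (SOf R₁ S₁ B) g) hgB q (hgS ▸ hgq)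

set_option synthInstance.maxHeartbeats 400000 in
/-- first step: a stage where the quotient is flat -/
theorem flat_of_flat_MOf {R₁ S₁ : Type u} [CommRing R₁] [Algebra R₁ R] [CommRing S₁]
    [Algebra R₁ S₁] [Algebra.FiniteType R₁ S₁] [Algebra S₁ S] [Algebra R₁ S] [IsScalarTower R₁ R S]
    [IsScalarTower R₁ S₁ S] [hpush : Algebra.IsPushout R₁ R S₁ S] (g : S₁) (B : Subalgebra R₁ R)
    [IsNoetherianRing B] [Module.Flat B (MOf R₁ S₁ (S₁ ⧸ Ideal.span {g}) B)]
    (hg : algebraMap S₁ S g ∈ nonZeroDivisors S) (q : Ideal S) [q.IsPrime] (hgq : algebraMap S₁ S g ∈ q) :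
    Module.Flat R (LocalizedModule q.primeCompl S) := by
  haveI := flat_of_MOf (R₁ := R₁) g B
  letI : Algebra (SOf R₁ S₁ B) S := (stageAlgHom R₁ R S₁ S B).toRingHom.toAlgebra
  haveI : IsScalarTower B (SOf R₁ S₁ B) S := IsScalarTower.of_algebraMap_eq fun a => by
    show _ = stageAlgHom R₁ R S₁ S B (a ⊗ₜ 1)
    simp only [stageAlgHom, AlgHom.comp_apply, sMap_tmul, AlgEquiv.coe_toAlgHom, pushoutAlgEquiv_tmul,
      map_one, mul_one]
    rfl
  haveI : Algebra.IsPushout B R (SOf R₁ S₁ B) S :=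
    isPushout_stage (R₀ := R₁) (R := R) (S₀ := S₁) (S := S) B (fun _ => rfl)
  have hgS : algebraMap (SOf R₁ S₁ B) S (algebraMap S₁ (SOf R₁ S₁ B) g) = algebraMap S₁ S g :=
    (stageAlgHom R₁ R S₁ S B).commutes g
  exact flat_of_model (R₁ := B) (S₁ := SOf R₁ S₁ B) (algebraMap S₁ (SOf R₁ S₁ B) g) (hgS.symm ▸ hg) q
    (hgS.symm ▸ hgq)

set_option synthInstance.maxHeartbeats 100000 in
/-- a finitely presented algebra is flat along a divisor cut by a nonzerodivisor with flat quotient -/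
theorem flat_along_divisor [Algebra.FinitePresentation R S] (h : S) (hh : h ∈ nonZeroDivisors S)
    [Module.Flat R (S ⧸ Ideal.span {h})] (q : Ideal S) [q.IsPrime] (hhq : h ∈ q) :
    Module.Flat R (LocalizedModule q.primeCompl S) := by
  obtain ⟨R₀, hR₀, S₀, _, _, _, _, hS₀, hpush, -⟩ := exists_models R S S
  haveI : IsNoetherianRing R₀ := Algebra.FiniteType.isNoetherianRing ℤ R₀
  obtain ⟨A, hA, y, hy⟩ := exists_sMap_eq R₀ S₀ ((pushoutAlgEquiv R₀ R S₀ S).symm h)
  haveI : IsNoetherianRing A := isNoetherianRing_of_fg hA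
  let SA := SOf R₀ S₀ A
  letI : Algebra SA S := (stageAlgHom R₀ R S₀ S A).toRingHom.toAlgebra
  haveI : IsScalarTower A SA S := IsScalarTower.of_algebraMap_eq fun a => by
    show _ = stageAlgHom R₀ R S₀ S A (a ⊗ₜ 1)
    simp only [stageAlgHom, AlgHom.comp_apply, sMap_tmul, AlgEquiv.coe_toAlgHom, pushoutAlgEquiv_tmul,
      map_one, mul_one]
    rfl
  haveI : Algebra.IsPushout A R SA S := isPushout_stage (R₀ := R₀) (R := R) (S₀ := S₀) (S := S) A (fun _ => rfl)
  have hyh : algebraMap SA S y = h := by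
    show pushoutAlgEquiv R₀ R S₀ S (sMap R₀ S₀ A.val y) = h
    rw [hy, AlgEquiv.apply_symm_apply]
  let M₁ := SA ⧸ Ideal.span {y}
  let M := S ⧸ Ideal.span {algebraMap SA S y}
  haveI : Module.Flat R M := by
    show Module.Flat R (S ⧸ Ideal.span {algebraMap SA S y})
    rw [hyh]; infer_instance
  let f : M₁ →ₗ[SA] M := ((tensorQuotSpan (B := S) y).toLinearMap.restrictScalars SA) ∘ₗ
    TensorProduct.mk SA S M₁ 1
  have hf : IsBaseChange S f := IsBaseChange.of_equiv (tensorQuotSpan y) fun _ => rfl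
  obtain ⟨B, hB, hflat⟩ := exists_stage_flat_global (R₀ := A) (R := R) (S₀ := SA) (S := S) hf
  haveI : IsNoetherianRing B := isNoetherianRing_of_fg hB
  haveI : Module.Flat B (MOf A SA M₁ B) := hflat B hB le_rfl
  exact flat_of_flat_MOf (R₁ := A) (S₁ := SA) y B (hyh.symm ▸ hh) q (hyh.symm ▸ hhq)

end Groth.CurveDiv
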