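import Groth.Agent.CohBase.FlatBC.Iso
import Groth.Agent.Misc13.FlatBC
import Groth.Agent.SiteCohomology.SchemeModules
import Groth.Agent.PicAux.Pullback
import Groth.Agent.PicAux.QCoh

/-!
# Sections of an inverse image along a flat base change
-/

universe u

open CategoryTheory Limits AlgebraicGeometry Opposite
open scoped TensorProduct

namespace Groth.CurveDiv.FlatH0

open Groth.CohBase Groth.CohBase.FlatBC
open Groth.PicAux (oneSec toFun pullUnit pullSec tmulSec)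
open Groth.QCohMod (res sectionsAlg)

variable {X S X' S' : Scheme.{u}} {f : X ⟶ S} {g : S' ⟶ S} {g' : X' ⟶ X} {f' : X' ⟶ S'}

/-- `τ` is bijective over the inverse image of an affine open of the base. -/
theorem τ_bijective_of_isCompact (sq : IsPullback g' f' f g) [QuasiCompact f] [QuasiSeparated f]
    (G : S'.Modules) [G.IsQuasicoherent] (hGf : FlatMod.IsFlatOver g G)
    (M : X.Modules) [M.IsQuasicoherent] {V : S.Opens} {V' : S'.Opens} (hV : IsAffineOpen V)
    (hV' : IsAffineOpen V') (e : V' ≤ g ⁻¹ᵁ V) {U' : X'.Opens} (e₁ : U' ≤ g' ⁻¹ᵁ (f ⁻¹ᵁ V))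
    (e₂ : U' ≤ f' ⁻¹ᵁ V') (hU' : U' = g' ⁻¹ᵁ (f ⁻¹ᵁ V) ⊓ f' ⁻¹ᵁ V') :
    Function.Bijective (τ sq.w G M e (le_refl (f ⁻¹ᵁ V)) e₁ e₂) := by
  have hP : FlatMod.IsFlatOver g' ((Scheme.Modules.pullback f').obj G) := fun x =>
    Groth.Agent.S1391.result g g' f' f sq.flip G ‹_› x (hGf _)
  have : Module.Flat Γ(S, V) (secMod g G e) :=
    (Flatmor4.isFlatOver_iff_affine g G).1 hGf V' V e hV' hV
  let I := injectiveResolution M
  let J := injectiveResolution ((tPull g' ((Scheme.Modules.pullback f').obj G)).obj M)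
  obtain ⟨φ, hφ⟩ := exists_tPull_desc g' _ I hP J
  have eU : f ⁻¹ᵁ V ≤ f ⁻¹ᵁ V := le_rfl
  have hqi := bcOn_of_isCompact sq G e I J φ hφ hV hV' eU U' e₁ e₂ hU'
  let ιI := secModMap f (resι I) eU
  let dI := secModMap f (I.cocomplex.d 0 1) eU
  have hI₀ : Function.Exact ιI dI := fun z =>
    ⟨fun hz => (Res.mem_cyc_zero_iff (R := Res.ofInjective I)).1 hz,
      fun ⟨m, hm⟩ => (Res.mem_cyc_zero_iff (R := Res.ofInjective I)).2 ⟨m, hm⟩⟩
  have hc₀ : ∀ m, (cmap sq G e I J φ eU e₁ e₂).f 0 (ιI.lTensor (secMod g G e) m) =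
      (show (evCx J U').X 0 from (resι J).app U' (τ sq.w G M e eU e₁ e₂ m)) := by
    intro m
    change (φ.f 0).app U' (τ sq.w G _ e eU e₁ e₂ (ιI.lTensor (secMod g G e) m)) = _
    rw [← τ_map]
    exact congr($(congrArg (fun γ : (tPull g' ((Scheme.Modules.pullback f').obj G)).obj M ⟶
      J.cocomplex.X 0 => γ.app U') hφ) (τ sq.w G M e eU e₁ e₂ m))
  refine ⟨(injective_iff_map_eq_zero _).2 fun m hm => ?_, fun s => ?_⟩
  · have h1 := hqi.inj 0 (ιI.lTensor (secMod g G e) m)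
      ((Module.Flat.lTensor_exact (secMod g G e) hI₀).apply_apply_eq_zero m) (by
        rw [mem_bd_zero, hc₀, hm]
        exact map_zero ((resι J).app U').hom)
    rw [mem_bd_zero] at h1
    have hi : Function.Injective ιI := fun a b hab =>
      Res.ι_app_injective (R := Res.ofInjective I) _ hab
    exact Module.Flat.lTensor_preserves_injective_linearMap ιI hi (h1.trans (map_zero _).symm)
  · have ht : (evCx J U').d 0 1 (show (evCx J U').X 0 from (resι J).app U' s) = 0 :=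
      (Res.mem_cyc_zero_iff (R := Res.ofInjective J)).2 ⟨s, rfl⟩
    obtain ⟨z, hz, hzt⟩ := hqi.surj 0 _ ht
    obtain ⟨m, rfl⟩ := (Module.Flat.lTensor_exact (secMod g G e) hI₀ z).1 hz
    rw [mem_bd_zero, sub_eq_zero, hc₀] at hzt
    exact ⟨m, Res.ι_app_injective (R := Res.ofInjective J) U' hzt⟩

lemma oneSec_pullUnit (h : X' ⟶ X) {U : X.Opens} {W : X'.Opens} (e : W ≤ h ⁻¹ᵁ U) :
    (pullUnit h).app W (psec h (Coh.structureModule X) e (oneSec X U)) = oneSec X' W := by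
  have h1 : psec h (Coh.structureModule X) e (oneSec X U) =
      Groth.PicAux.res _ (le_top : W ≤ h ⁻¹ᵁ ⊤) (pullSec h _ (oneSec X ⊤)) := by
    rw [psec_apply, ← Groth.PicAux.res_oneSec (le_top : U ≤ ⊤), ← Groth.PicAux.res_pullSec]
    exact Groth.PicAux.res_res (h.preimage_mono le_top) e _
  rw [h1]
  refine (Groth.PicAux.app_res (pullUnit h) (le_top : W ≤ h ⁻¹ᵁ ⊤) _).trans ?_
  refine (congrArg (Groth.PicAux.res _ (le_top : W ≤ h ⁻¹ᵁ ⊤)) (Groth.PicAux.pullbackObjUnit_oneSec h)).trans ?_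
  exact Groth.PicAux.res_oneSec _

lemma unitor_psec (f' : X' ⟶ S') (N : X'.Modules) {V' : S'.Opens} {W : X'.Opens}
    (e₂ : W ≤ f' ⁻¹ᵁ V')
    (lu : CohB1.tensorMod (Coh.structureModule X') N ≅ N)
    (hlu : ∀ W r a, lu.hom.app W (tmulSec r a) = toFun r • a) (b : Γ(S', V')) (n : Γ(N, W)) :
    lu.hom.app W ((((DCoh.tensorBi (X := X')).map (pullUnit f')).app N).app W
      (tmulSec (psec f' (Coh.structureModule S') e₂ (b • oneSec S' V')) n)) =
      f'.appLE V' W e₂ b • n := by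
  refine (congrArg _ (DerivedCoh.KFlat.tensorMap_left_tmulSec (pullUnit f') N W _ n)).trans ?_
  refine (hlu W _ n).trans ?_
  rw [psec_smul, Scheme.Modules.Hom.app_smul, oneSec_pullUnit, Groth.PicAux.toFun_smul,
    Groth.PicAux.toFun_oneSec, mul_one]

/-- Sections of `g'^*M` over `f'⁻¹V'` are spanned by `Γ(S',V')` and the sections of `M`. -/
theorem exists_baseChange_equiv (sq : IsPullback g' f' f g) [QuasiCompact f] [QuasiSeparated f]
    [Flat g] (M : X.Modules) [M.IsQuasicoherent] {V : S.Opens} {V' : S'.Opens}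
    (hV : IsAffineOpen V) (hV' : IsAffineOpen V') (e : V' ≤ g ⁻¹ᵁ V)
    (e₁ : f' ⁻¹ᵁ V' ≤ g' ⁻¹ᵁ (f ⁻¹ᵁ V)) :
    letI := sectionsAlg g e
    ∃ Φ : Γ(S', V') ⊗[Γ(S, V)] secMod f M (le_refl (f ⁻¹ᵁ V)) ≃+
        Γ((Scheme.Modules.pullback g').obj M, f' ⁻¹ᵁ V'),
      ∀ b m, Φ (b ⊗ₜ m) = f'.app V' b • psec g' M e₁ (show Γ(M, f ⁻¹ᵁ V) from m) := by
  let := sectionsAlg g e
  have hG := Groth.PicAux.isQCoh_structureModule S'
  have hτ := τ_bijective_of_isCompact sq (Coh.structureModule S')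
    (fun x => (Groth.Misc13.FlatBC.flat_stalkMap_iff_structure g x).2 (Flat.stalkMap g x)) M hV hV' e
    e₁ le_rfl (inf_eq_right.2 e₁).symm
  let j : Γ(S', V') ≃ₗ[Γ(S, V)] secMod g (Coh.structureModule S') e :=
    { toFun := fun b => (b : Γ(S', V'))
      invFun := fun b => toFun b
      map_add' := fun _ _ => rfl
      map_smul' := fun _ _ => rfl
      left_inv := fun _ => rfl
      right_inv := fun _ => rfl }
  obtain ⟨lu, hlu⟩ := Groth.PicAux.exists_leftUnitor ((Scheme.Modules.pullback g').obj M)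
  have := Groth.PicAux.isIso_pullUnit f'
  let a : (tPull g' ((Scheme.Modules.pullback f').obj (Coh.structureModule S'))).obj M ≅
      (Scheme.Modules.pullback g').obj M :=
    ((DCoh.tensorBi (X := X')).mapIso (asIso (pullUnit f'))).app _ ≪≫ lu
  have ha : Function.Bijective (a.hom.app (f' ⁻¹ᵁ V')) :=
    ⟨Function.LeftInverse.injective (g := a.inv.app _) fun z =>
        congr(($(a.hom_inv_id)).app (f' ⁻¹ᵁ V') z),
      Function.RightInverse.surjective (g := a.inv.app _) fun z =>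
        congr(($(a.inv_hom_id)).app (f' ⁻¹ᵁ V') z)⟩
  refine ⟨(TensorProduct.congr j (LinearEquiv.refl _ _)).toAddEquiv.trans
    (AddEquiv.ofBijective ((a.hom.app (f' ⁻¹ᵁ V')).hom.comp
      (τ sq.w (Coh.structureModule S') M e (le_refl (f ⁻¹ᵁ V)) e₁ le_rfl)) (ha.comp hτ)), ?_⟩
  intro b m
  change a.hom.app (f' ⁻¹ᵁ V') (τ sq.w (Coh.structureModule S') M e (le_refl (f ⁻¹ᵁ V)) e₁ le_rfl
    ((j b) ⊗ₜ m)) = _
  rw [τ_tmul]
  have hb : (show Γ(Coh.structureModule S', V') from j b) = b • oneSec S' V' :=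
    Groth.PicAux.eq_toFun_smul_oneSec (show Γ(Coh.structureModule S', V') from j b)
  rw [hb]
  refine Eq.trans ?_ (congrArg (· • psec g' M e₁ (show Γ(M, f ⁻¹ᵁ V) from m))
    (congr($(Scheme.Hom.appLE_eq_app f' (U := V')) b)))
  exact unitor_psec f' _ le_rfl lu hlu b _

end Groth.CurveDiv.FlatH0
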