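import Groth.Agent.CurveDiv.Main
import Groth.Agent.RefRank.FittSheaf
import Groth.Agent.S9501
import Groth.Prelude.Def_CurvBase

/-!
# Relative effective Cartier divisors from their fibres (helper78)
-/

set_option autoImplicit false
set_option linter.style.haveILetI false

universe u

open CategoryTheory CategoryTheory.Limits AlgebraicGeometry IsLocalRing TopologicalSpace

namespace Groth.CurveDiv

open Groth.RefRank.RelDiv Groth.RefRank.EffCartierLocal Groth.Divisors

section Alg

variable {R A : Type u} [CommRing R] [CommRing A] [IsLocalRing A] [Algebra R A]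

/-- an ideal with flat quotient is generated by a lift of a generator on the fibre -/
lemma exists_span_of_map_eq {m : Ideal R} (hm : m.map (algebraMap R A) ≤ maximalIdeal A)
    {J : Ideal A} (hJ : J.FG) [Module.Flat R (A ⧸ J)] {hb : A ⧸ m.map (algebraMap R A)}
    (hhb : J.map (Ideal.Quotient.mk (m.map (algebraMap R A))) = Ideal.span {hb}) :
    ∃ h ∈ J, J = Ideal.span {h} ∧ Ideal.Quotient.mk (m.map (algebraMap R A)) h = hb := by
  have key : ∀ z ∈ J, z ∈ (m.map (algebraMap R A)) → z ∈ maximalIdeal A • J := fun z hz hzM => by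
    have h := Groth.Ega4b.mem_mul_of_flat_quotient (Ideal.Quotient.mkₐ R J)
      Ideal.Quotient.mk_surjective m ⟨RingHom.mem_ker.2 (Ideal.Quotient.eq_zero_iff_mem.2 hz), hzM⟩
    have hk : RingHom.ker (Ideal.Quotient.mkₐ R J) = J := Ideal.mk_ker
    rw [hk] at h
    exact Ideal.mul_mono hm le_rfl h
  have hmem : hb ∈ J.map (Ideal.Quotient.mk (m.map (algebraMap R A))) := hhb.ge (Ideal.mem_span_singleton_self hb)
  obtain ⟨h, hhJ, rfl⟩ := (Ideal.mem_map_iff_of_surjective _ Ideal.Quotient.mk_surjective).1 hmem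
  refine ⟨h, hhJ, le_antisymm ?_ ((Ideal.span_singleton_le_iff_mem J).2 hhJ), rfl⟩
  refine Submodule.le_of_le_smul_of_le_jacobson_bot hJ (maximalIdeal_le_jacobson _) ?_
  intro z hz
  have h1 : Ideal.Quotient.mk (m.map (algebraMap R A)) z ∈ J.map (Ideal.Quotient.mk (m.map (algebraMap R A))) := Ideal.mem_map_of_mem _ hz
  rw [hhb, Ideal.mem_span_singleton'] at h1
  obtain ⟨c, hc⟩ := h1
  obtain ⟨c, rfl⟩ := Ideal.Quotient.mk_surjective c
  rw [← map_mul, Ideal.Quotient.eq] at hc
  have : z = c * h - (c * h - z) := by ring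
  rw [this]
  exact sub_mem (Submodule.mem_sup_left (Ideal.mul_mem_left _ c (Ideal.mem_span_singleton_self h)))
    (Submodule.mem_sup_right (key _ (sub_mem (J.mul_mem_left c hhJ) hz) hc))

lemma mem_nonZeroDivisors_of_span_eq {F : Type u} [CommRing F] [IsLocalRing F] {a b : F}
    (hb : b ∈ nonZeroDivisors F) (h : Ideal.span {a} = Ideal.span {b}) : a ∈ nonZeroDivisors F := by
  obtain ⟨u, hu⟩ := Ideal.mem_span_singleton'.1 (h ▸ Ideal.mem_span_singleton_self b : b ∈ Ideal.span {a})
  exact (mul_mem_nonZeroDivisors.1 (hu ▸ hb)).2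

end Alg

variable {X S : Scheme.{u}} (f : X ⟶ S) {I : X.IdealSheafData}

set_option backward.isDefEq.respectTransparency.types false in
/-- on the local ring of a fibre, the ideal of a fibrewise Cartier divisor is principal and regular -/
lemma exists_fibre_gen (hfib : ∀ s : S, BlowUp.IsEffCartierIdeal (I.comap (f.fiberι s)))
    (x : X) {V : X.affineOpens} (hxV : x ∈ V.1) :
    ∃ hb ∈ nonZeroDivisors (X.presheaf.stalk x ⧸ (maximalIdeal (S.presheaf.stalk (f x))).map (f.stalkMap x).hom),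
      ((I.ideal V).map (X.presheaf.germ V.1 x hxV).hom).map
        (Ideal.Quotient.mk ((maximalIdeal (S.presheaf.stalk (f x))).map (f.stalkMap x).hom)) = Ideal.span {hb} := by
  obtain ⟨s, hs⟩ : ∃ s, f x = s := ⟨_, rfl⟩
  obtain ⟨w, rfl⟩ : x ∈ Set.range (f.fiberι s) := by rw [f.range_fiberι]; exact hs
  obtain ⟨W, hwW, -⟩ := exists_affine_le w ⊤ trivial
  obtain ⟨t, ht, htI⟩ := exists_stalk_gen (hfib s) hwW
  rw [Groth.RefRank.FittSheaf.map_germ_comap I (f.fiberι s) hwW hxV] at htI
  obtain ⟨hsurj, hk⟩ := Groth.Agent.S9501.result f s w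
  let e := (Ideal.quotEquivOfEq hk.symm).trans (RingHom.quotientKerEquivOfSurjective hsurj)
  have he : e.toRingHom.comp (Ideal.Quotient.mk _) = ((f.fiberι s).stalkMap w).hom := RingHom.ext fun _ => rfl
  refine ⟨e.symm t, ?_, ?_⟩
  · rw [mem_nonZeroDivisors_iff_right] at ht ⊢
    intro c hc
    refine e.injective ?_
    rw [map_zero]
    exact ht (e c) (by rw [← e.apply_symm_apply t, ← map_mul, hc, map_zero])
  · have h2 := congrArg (Ideal.map e.symm.toRingHom) htI
    rw [Ideal.map_span, Set.image_singleton, ← he, ← Ideal.map_map, Ideal.map_map (I := Ideal.map (Ideal.Quotient.mk _) _)] at h2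
    simpa using h2

open Groth.FlatMor2.FibCrit in
set_option synthInstance.maxHeartbeats 200000 in
/-- cutting by an element regular on the fibre keeps the local ring flat -/
lemma flat_mk_comp [LocallyOfFinitePresentation f] (x : X) (hflat : (f.stalkMap x).hom.Flat)
    (h : X.presheaf.stalk x) (hm : h ∈ maximalIdeal (X.presheaf.stalk x))
    (hreg : Ideal.Quotient.mk ((maximalIdeal (S.presheaf.stalk (f x))).map (f.stalkMap x).hom) h ∈
      nonZeroDivisors (X.presheaf.stalk x ⧸ (maximalIdeal (S.presheaf.stalk (f x))).map (f.stalkMap x).hom)) :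
    ((Ideal.Quotient.mk (Ideal.span {h})).comp (f.stalkMap x).hom).Flat := by
  obtain ⟨U, hU, hxU, -⟩ := exists_isAffineOpen_mem_and_subset (x := f x) (Opens.mem_top (f x))
  obtain ⟨O, hxO, h₀, rfl⟩ := X.presheaf.exists_germ_eq h
  obtain ⟨W, hW, hxW, hWO⟩ := exists_isAffineOpen_mem_and_subset (x := x) (U := f ⁻¹ᵁ U ⊓ O)
    ⟨hxU, hxO⟩
  have eWU : W ≤ f ⁻¹ᵁ U := fun w hw => (hWO hw).1
  have eWO : W ≤ O := fun w hw => (hWO hw).2
  let c : Γ(X, W) := X.presheaf.map (homOfLE eWO).op h₀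
  have hc : X.presheaf.germ W x hxW c = X.presheaf.germ O x hxO h₀ :=
    X.presheaf.germ_res_apply (homOfLE eWO) x hxW h₀
  letI : Algebra Γ(S, U) Γ(X, W) := (f.appLE U W eWU).hom.toAlgebra
  haveI : Algebra.FinitePresentation Γ(S, U) Γ(X, W) := f.finitePresentation_appLE hU hW eWU
  letI := S.presheaf.algebra_section_stalk ⟨f x, eWU hxW⟩
  letI := X.presheaf.algebra_section_stalk ⟨x, hxW⟩
  let q := (hW.primeIdealOf ⟨x, hxW⟩).asIdeal
  haveI : IsLocalization.AtPrime (X.presheaf.stalk x) q := hW.isLocalization_stalk ⟨x, hxW⟩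
  haveI : IsLocalization.AtPrime (S.presheaf.stalk (f x)) (q.under Γ(S, U)) :=
    isLocalization_stalk_under f hU hW eWU x hxW
  letI : Algebra (S.presheaf.stalk (f x)) (X.presheaf.stalk x) := (f.stalkMap x).hom.toAlgebra
  letI : Algebra Γ(S, U) (X.presheaf.stalk x) :=
    ((algebraMap Γ(X, W) (X.presheaf.stalk x)).comp (algebraMap Γ(S, U) Γ(X, W))).toAlgebra
  haveI : IsScalarTower Γ(S, U) Γ(X, W) (X.presheaf.stalk x) := IsScalarTower.of_algebraMap_eq' rfl
  haveI : IsScalarTower Γ(S, U) (S.presheaf.stalk (f x)) (X.presheaf.stalk x) :=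
    IsScalarTower.of_algebraMap_eq fun a => (stalkMap_germ_appLE f eWU x hxW a).symm
  haveI : Module.Flat Γ(S, U) (X.presheaf.stalk x) :=
    (flat_base_iff_local (Br := S.presheaf.stalk (f x)) (q.under Γ(S, U))).mp
      (RingHom.flat_algebraMap_iff.mp hflat)
  have hmax : Ideal.map (f.stalkMap x).hom (maximalIdeal (S.presheaf.stalk (f x))) =
      (q.under Γ(S, U)).map (algebraMap Γ(S, U) (X.presheaf.stalk x)) := by
    rw [IsScalarTower.algebraMap_eq Γ(S, U) (S.presheaf.stalk (f x)) (X.presheaf.stalk x),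
      ← Ideal.map_map, IsLocalization.AtPrime.map_eq_maximalIdeal (q.under Γ(S, U))
        (S.presheaf.stalk (f x))]
    rfl
  have hcq : c ∈ q := (IsLocalization.AtPrime.to_map_mem_maximal_iff (X.presheaf.stalk x) q c).mp
    (show X.presheaf.germ W x hxW c ∈ _ by rw [hc]; exact hm)
  have hreg' : Ideal.Quotient.mk ((q.under Γ(S, U)).map (algebraMap Γ(S, U) (X.presheaf.stalk x)))
      (algebraMap Γ(X, W) (X.presheaf.stalk x) c) ∈ nonZeroDivisors
        (X.presheaf.stalk x ⧸ (q.under Γ(S, U)).map (algebraMap Γ(S, U) (X.presheaf.stalk x))) := by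
    rw [← hmax, show algebraMap Γ(X, W) (X.presheaf.stalk x) c = _ from hc]
    exact hreg
  obtain ⟨g, -, hfl, -⟩ := exists_nhd_slice q c hcq (Cq := X.presheaf.stalk x) hreg'
  rw [show algebraMap Γ(X, W) (X.presheaf.stalk x) c = _ from hc] at hfl
  exact (flat_comp_mk_iff (R := S.presheaf.stalk (f x)) _).2
    ((flat_base_iff_local (q.under Γ(S, U))).mpr hfl)

/-- at a point of the subscheme a principal stalk ideal with regular fibre gives a local equation -/
lemma exists_nzd_gen [LocallyOfFinitePresentation f] {x : X} (hflat : (f.stalkMap x).hom.Flat)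
    {h : X.presheaf.stalk x} (hm : h ∈ maximalIdeal (X.presheaf.stalk x))
    (hreg : Ideal.Quotient.mk ((maximalIdeal (S.presheaf.stalk (f x))).map (f.stalkMap x).hom) h ∈
      nonZeroDivisors (X.presheaf.stalk x ⧸ (maximalIdeal (S.presheaf.stalk (f x))).map (f.stalkMap x).hom)) :
    ∃ (U : X.affineOpens) (hx : x ∈ U.1) (h' : Γ(X, U.1)),
      X.presheaf.germ U.1 x hx h' = h ∧ IsNzdSec h' := by
  obtain ⟨U, hU, hxU, h', hg, hnzd, -, -⟩ := Groth.FlatMor2.FibCrit.exists_slice f x hflat h hm hreg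
  exact ⟨⟨U, hU⟩, hxU, h', hg, isNzdSec_of_mem hU hnzd⟩

include f in
/-- a flat subscheme which is Cartier on each fibre is Cartier -/
theorem isEffCartierIdeal_of_fibres [Flat f] [LocallyOfFinitePresentation f] [Flat (I.subschemeι ≫ f)]
    [LocallyOfFinitePresentation (I.subschemeι ≫ f)]
    (hfib : ∀ s : S, BlowUp.IsEffCartierIdeal (I.comap (f.fiberι s))) : BlowUp.IsEffCartierIdeal I := by
  haveI : LocallyOfFinitePresentation I.subschemeι := Groth.SpectralTopology.lfp_of_comp _ f
  have hfg : ∀ V, (I.ideal V).FG := fun V => by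
    simpa using Groth.Flatmor4.ker_fg_of_lfp I.subschemeι V
  refine isEffCartierIdeal_of_local fun x => ?_
  by_cases hxI : x ∈ I.support
  swap
  · obtain ⟨W, hxW, hW⟩ := exists_affine_le x ⟨(I.support : Set X)ᶜ, I.support.isClosed.isOpen_compl⟩ hxI
    refine ⟨W, hxW, 1, isNzdSec_one _, ?_⟩
    rw [ideal_eq_top_of_notMem fun y hy => hW hy, Ideal.span_singleton_one]
  obtain ⟨V, hxV, -⟩ := exists_affine_le x ⊤ trivial
  letI : Algebra (S.presheaf.stalk (f x)) (X.presheaf.stalk x) := (f.stalkMap x).hom.toAlgebra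
  haveI := (flat_comp_mk_iff (R := S.presheaf.stalk (f x))
    ((I.ideal V).map (X.presheaf.germ V.1 x hxV).hom)).1 ((flat_subscheme_iff f I).1 inferInstance x V hxV)
  obtain ⟨hb, hbn, hbe⟩ := exists_fibre_gen f hfib x hxV
  obtain ⟨h, hhJ, hJ, hh⟩ := exists_span_of_map_eq (R := S.presheaf.stalk (f x))
    (m := maximalIdeal (S.presheaf.stalk (f x))) (stalkMap_map_le f x)
    ((hfg V).map (X.presheaf.germ V.1 x hxV).hom) hbe
  have hhm : h ∈ maximalIdeal (X.presheaf.stalk x) :=
    IsLocalRing.le_maximalIdeal ((mem_support_iff_map_germ_ne_top I hxV).1 hxI) hhJ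
  obtain ⟨U, hxU, h', hgerm, hnzd⟩ := exists_nzd_gen f (Flat.stalkMap f x) hhm (hh ▸ hbn)
  obtain ⟨W, hWU, hxW, -, hW⟩ := exists_le_ideal_eq hfg (V := U) hxU (Ideal.span {h'})
    (Submodule.fg_span_singleton _) ⊤ trivial (by
      refine (map_germ_eq I hxU hxV).trans (hJ.trans ?_)
      rw [Ideal.map_span, Set.image_singleton, ← hgerm])
  refine ⟨W, hxW, _, hnzd.res hWU, ?_⟩
  rw [hW, Ideal.map_span, Set.image_singleton]

include f in
/-- a locally principal subscheme which is Cartier on each fibre is a relative Cartier divisor -/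
theorem relEffCartier_of_locPrincipal [Flat f] [LocallyOfFinitePresentation f]
    (hZ : Curv2.IsLocPrincipal I)
    (hfib : ∀ s : S, BlowUp.IsEffCartierIdeal (I.comap (f.fiberι s))) :
    BlowUp.IsEffCartierIdeal I ∧ Flat (I.subschemeι ≫ f) := by
  have key : ∀ {x : X}, x ∈ I.support → ∀ {U : X.affineOpens} (hxU : x ∈ U.1) (a : Γ(X, U.1)),
      I.ideal U = Ideal.span {a} →
      X.presheaf.germ U.1 x hxU a ∈ maximalIdeal (X.presheaf.stalk x) ∧
      Ideal.Quotient.mk ((maximalIdeal (S.presheaf.stalk (f x))).map (f.stalkMap x).hom)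
          (X.presheaf.germ U.1 x hxU a) ∈ nonZeroDivisors
        (X.presheaf.stalk x ⧸ (maximalIdeal (S.presheaf.stalk (f x))).map (f.stalkMap x).hom) := by
    intro x hxI U hxU a ha
    obtain ⟨hb, hbn, hbe⟩ := exists_fibre_gen f hfib x hxU
    have hmap : (I.ideal U).map (X.presheaf.germ U.1 x hxU).hom =
        Ideal.span {X.presheaf.germ U.1 x hxU a} := by
      rw [ha, Ideal.map_span, Set.image_singleton]
    have hne := (mem_support_iff_map_germ_ne_top I hxU).1 hxI
    rw [hmap] at hne hbe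
    rw [Ideal.map_span, Set.image_singleton] at hbe
    haveI : Nontrivial (X.presheaf.stalk x ⧸ (maximalIdeal (S.presheaf.stalk (f x))).map (f.stalkMap x).hom) :=
      Ideal.Quotient.nontrivial_iff.mpr
        (ne_top_of_le_ne_top (IsLocalRing.maximalIdeal.isMaximal _).ne_top (stalkMap_map_le f x))
    haveI : IsLocalRing (X.presheaf.stalk x ⧸ (maximalIdeal (S.presheaf.stalk (f x))).map (f.stalkMap x).hom) :=
      IsLocalRing.of_surjective' _ Ideal.Quotient.mk_surjective
    exact ⟨IsLocalRing.le_maximalIdeal hne (Ideal.mem_span_singleton_self _),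
      mem_nonZeroDivisors_of_span_eq hbn hbe⟩
  constructor
  · refine isEffCartierIdeal_of_local fun x => ?_
    by_cases hxI : x ∈ I.support
    swap
    · obtain ⟨W, hxW, hW⟩ := exists_affine_le x ⟨(I.support : Set X)ᶜ, I.support.isClosed.isOpen_compl⟩ hxI
      refine ⟨W, hxW, 1, isNzdSec_one _, ?_⟩
      rw [ideal_eq_top_of_notMem fun y hy => hW hy, Ideal.span_singleton_one]
    obtain ⟨U, hxU, a, ha⟩ := hZ x hxI
    obtain ⟨hm, hreg⟩ := key hxI hxU a ha
    obtain ⟨U', hxU', h', hgerm, hnzd⟩ := exists_nzd_gen f (Flat.stalkMap f x) hm hreg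
    obtain ⟨W, hxW, hWle⟩ := exists_affine_le x (U.1 ⊓ U'.1) ⟨hxU, hxU'⟩
    obtain ⟨g₁, g₂, hg⟩ : ∃ (O : X.Opens) (hO : x ∈ O), O ≤ W.1 ∧
        ∀ y, ∀ (hy : y ∈ O) (hyU : y ∈ U.1) (hyU' : y ∈ U'.1),
          X.presheaf.germ U.1 y hyU a = X.presheaf.germ U'.1 y hyU' h' := by
      obtain ⟨O, hxO, i₁, i₂, heq⟩ := X.presheaf.germ_eq x hxU hxU' a h' hgerm.symm
      refine ⟨O ⊓ W.1, ⟨hxO, hxW⟩, inf_le_right, fun y hy hyU hyU' => ?_⟩
      have := congrArg (fun t => X.presheaf.germ O y hy.1 t) heq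
      simpa [TopCat.Presheaf.germ_res_apply] using this
    obtain ⟨W', hxW', hW'⟩ := exists_affine_le x g₁ g₂
    have hU' : W'.1 ≤ U.1 := hW'.trans (hg.1.trans (hWle.trans inf_le_left))
    refine ⟨W', hxW', X.presheaf.map (homOfLE hU').op a, fun y hy => ?_, ?_⟩
    · rw [TopCat.Presheaf.germ_res_apply, hg.2 y (hW' hy) (hU' hy)
        ((hW'.trans (hg.1.trans (hWle.trans inf_le_right))) hy)]
      exact hnzd y _
    · rw [← I.map_ideal (U := W') (V := U) hU', ha, Ideal.map_span, Set.image_singleton]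
      rfl
  · refine (flat_subscheme_iff f I).2 fun x V hxV => ?_
    by_cases hxI : x ∈ I.support
    · obtain ⟨U, hxU, a, ha⟩ := hZ x hxI
      obtain ⟨hm, hreg⟩ := key hxI hxU a ha
      have hJ : (I.ideal V).map (X.presheaf.germ V.1 x hxV).hom =
          Ideal.span {X.presheaf.germ U.1 x hxU a} := by
        rw [map_germ_eq I hxV hxU, ha, Ideal.map_span, Set.image_singleton]
      rw [hJ]
      exact flat_mk_comp f x (Flat.stalkMap f x) _ hm hreg
    · have htop : (I.ideal V).map (X.presheaf.germ V.1 x hxV).hom = ⊤ :=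
        not_not.1 (mt (mem_support_iff_map_germ_ne_top I hxV).2 hxI)
      haveI := Ideal.Quotient.subsingleton_iff.2 htop
      letI : Algebra (S.presheaf.stalk (f x)) (X.presheaf.stalk x) := (f.stalkMap x).hom.toAlgebra
      exact (flat_comp_mk_iff _).2 inferInstance

end Groth.CurveDiv
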