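import Groth.Agent.CurveDiv.FlatAlong
import Groth.Agent.CurveDiv.RelCartier
import Groth.Agent.CMMor.Locus

/-!
# Flatness near a relative effective Cartier divisor (helper78)
-/

set_option autoImplicit false
set_option linter.style.haveILetI false

universe u

open CategoryTheory CategoryTheory.Limits AlgebraicGeometry IsLocalRing TopologicalSpace

namespace Groth.CurveDiv

open Groth.RefRank.RelDiv Groth.RefRank.EffCartierLocal Groth.Divisors Groth.FlatMor2.FibCrit

variable {X S : Scheme.{u}} (f : X ⟶ S) {I : X.IdealSheafData}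

set_option synthInstance.maxHeartbeats 200000 in
/-- flatness at the points of a relative Cartier divisor -/
theorem flat_stalkMap_of_relEffCartier [LocallyOfFinitePresentation f]
    (hI : BlowUp.IsEffCartierIdeal I) [Flat (I.subschemeι ≫ f)] {x : X} (hx : x ∈ I.support) :
    (f.stalkMap x).hom.Flat := by
  obtain ⟨U, hU, hxU, -⟩ := exists_isAffineOpen_mem_and_subset (x := f x) (Opens.mem_top (f x))
  obtain ⟨W, hxW, eWU, a, hnzd, hIW⟩ := Groth.Divisors.exists_generator hI x (f ⁻¹ᵁ U) hxU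
  letI : Algebra Γ(S, U) Γ(X, W.1) := (f.appLE U W.1 eWU).hom.toAlgebra
  haveI : Algebra.FinitePresentation Γ(S, U) Γ(X, W.1) := f.finitePresentation_appLE hU W.2 eWU
  -- the quotient is flat
  let W' := I.subschemeι ⁻¹ᵁ W.1
  have eW' : W' ≤ (I.subschemeι ≫ f) ⁻¹ᵁ U := fun z hz => eWU hz
  let ψ := ((I.subschemeι ≫ f).appLE U W' eW').hom
  letI : Algebra Γ(S, U) Γ(I.subscheme, W') := ψ.toAlgebra
  let φ : Γ(X, W.1) →ₐ[Γ(S, U)] Γ(I.subscheme, W') :=
    { (I.subschemeι.app W.1).hom with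
      commutes' := fun r => by
        show (f.appLE U W.1 eWU ≫ I.subschemeι.app W.1).hom r = ψ r
        congr 2
        rw [Scheme.Hom.app_eq_appLE, Scheme.Hom.appLE_comp_appLE] }
  have hk : RingHom.ker φ = Ideal.span {a} := by
    have h := I.subschemeι.ker_apply W
    rw [I.ker_subschemeι, hIW] at h
    exact h.symm
  let e := (Ideal.quotientEquivAlgOfEq Γ(S, U) hk.symm).trans
    (Ideal.quotientKerAlgEquivOfSurjective (f := φ) (I.subschemeι.app_surjective _ W.2))
  haveI : Module.Flat Γ(S, U) Γ(I.subscheme, W') :=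
    (I.subschemeι ≫ f).flat_appLE hU (W.2.preimage I.subschemeι) eW'
  haveI : Module.Flat Γ(S, U) (Γ(X, W.1) ⧸ Ideal.span {a}) := Module.Flat.of_linearEquiv e.toLinearEquiv
  -- the stalk
  letI := S.presheaf.algebra_section_stalk ⟨f x, eWU hxW⟩
  letI := X.presheaf.algebra_section_stalk ⟨x, hxW⟩
  let q := (W.2.primeIdealOf ⟨x, hxW⟩).asIdeal
  haveI : IsLocalization.AtPrime (X.presheaf.stalk x) q := W.2.isLocalization_stalk ⟨x, hxW⟩
  haveI : IsLocalization.AtPrime (S.presheaf.stalk (f x)) (q.under Γ(S, U)) :=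
    isLocalization_stalk_under f hU W.2 eWU x hxW
  letI : Algebra (S.presheaf.stalk (f x)) (X.presheaf.stalk x) := (f.stalkMap x).hom.toAlgebra
  letI : Algebra Γ(S, U) (X.presheaf.stalk x) :=
    ((algebraMap Γ(X, W.1) (X.presheaf.stalk x)).comp (algebraMap Γ(S, U) Γ(X, W.1))).toAlgebra
  haveI : IsScalarTower Γ(S, U) Γ(X, W.1) (X.presheaf.stalk x) := IsScalarTower.of_algebraMap_eq' rfl
  haveI : IsScalarTower Γ(S, U) (S.presheaf.stalk (f x)) (X.presheaf.stalk x) :=
    IsScalarTower.of_algebraMap_eq fun b => (stalkMap_germ_appLE f eWU x hxW b).symm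
  have haq : a ∈ q := by
    have hne := (mem_support_iff_map_germ_ne_top I hxW).1 hx
    rw [hIW, Ideal.map_span, Set.image_singleton] at hne
    exact (IsLocalization.AtPrime.to_map_mem_maximal_iff (X.presheaf.stalk x) q a).mp
      (IsLocalRing.le_maximalIdeal hne (Ideal.mem_span_singleton_self _))
  haveI := flat_along_divisor (R := Γ(S, U)) a (IsNzdSec.mem_nonZeroDivisors hnzd) q haq
  haveI : Module.Flat Γ(S, U) (X.presheaf.stalk x) :=
    Module.Flat.of_linearEquiv
      ((IsLocalizedModule.iso q.primeCompl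
        (IsScalarTower.toAlgHom Γ(X, W.1) Γ(X, W.1) (X.presheaf.stalk x)).toLinearMap).restrictScalars Γ(S, U)).symm
  exact RingHom.flat_algebraMap_iff.mpr
    ((flat_base_iff_local (Br := S.presheaf.stalk (f x)) (q.under Γ(S, U))).mpr inferInstance)

include f in
theorem exists_flat_nhd [LocallyOfFinitePresentation f]
    (hI : BlowUp.IsEffCartierIdeal I) [Flat (I.subschemeι ≫ f)] :
    ∃ U : X.Opens, (I.support : Set X) ⊆ U ∧ Flat (U.ι ≫ f) := by
  let U : X.Opens := ⟨_, Groth.CMMor.isOpen_flatAt f⟩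
  refine ⟨U, fun x hx => flat_stalkMap_of_relEffCartier f hI hx, ?_⟩
  rw [Flat.iff_flat_stalkMap]
  intro u
  rw [Scheme.Hom.stalkMap_comp]
  exact RingHom.Flat.comp u.2 (Flat.stalkMap U.ι u)

end Groth.CurveDiv
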