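import Groth.Agent.CurveDiv.Flag
import Groth.Agent.HilbPts.Sep

/-!
# Adding a point to a family of points on a smooth curve (helper78)
-/

set_option autoImplicit false
set_option linter.style.haveILetI false

universe u

open CategoryTheory CategoryTheory.Limits AlgebraicGeometry

namespace Groth.CurveDiv

open Groth.HilbPts

variable {X S : Scheme.{u}} (f : X ⟶ S)

lemma pull_eq_comap {T T' : Over S} (g : T' ⟶ T) (I : (PicF.XT f T).IdealSheafData) :
    HilbD.pull f g I = I.comap (PicF.XTmap f g) := by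
  refine ideal_ext fun W x => ?_
  rw [pull_le_ker, ← Scheme.IdealSheafData.le_map_iff_comap_le, Scheme.IdealSheafData.map_ker]

lemma pull_mul {T T' : Over S} (g : T' ⟶ T) (I J : (PicF.XT f T).IdealSheafData) :
    HilbD.pull f g (I * J) = HilbD.pull f g I * HilbD.pull f g J := by
  rw [pull_eq_comap, pull_eq_comap, pull_eq_comap, Groth.Divisors.comap_mul]

lemma pull_id {T : Over S} (I : (PicF.XT f T).IdealSheafData) : HilbD.pull f (𝟙 T) I = I :=
  ideal_ext fun W x => by rw [pull_le_ker, XTmap_id, Category.comp_id]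

lemma secGraph_congr {T : Over S} {x x' : T.left ⟶ X} (h : x = x') (hx : x ≫ f = T.hom)
    (hx' : x' ≫ f = T.hom) : HilbD.secGraph f T x hx = HilbD.secGraph f T x' hx' := by
  subst h; rfl

lemma mul_le_right' {Y : Scheme.{u}} (I J : Y.IdealSheafData) : I * J ≤ J := fun U => by
  simp only [Scheme.IdealSheafData.ideal_mul, Pi.mul_apply]; exact Ideal.mul_le_right

variable [SmoothOfRelativeDimension 1 f]

instance smoothOfRelativeDimension_XTproj (T : Over S) :
    SmoothOfRelativeDimension 1 (PicF.XTproj f T) :=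
  (smoothOfRelativeDimension_isStableUnderBaseChange 1).of_isPullback
    (IsPullback.of_hasPullback f T.hom) inferInstance

variable [IsSeparated f]

/-- a family of degree `d + 1` containing the graph of a point is the graph plus a family of degree `d` -/
theorem exists_residual {d : ℕ} {T : Over S} (W : HilbD.Obj f (d + 1) T) (x : T.left ⟶ X)
    (hx : x ≫ f = T.hom) (hle : W.1 ≤ HilbD.secGraph f T x hx) :
    ∃ I : HilbD.Obj f d T, W.1 = HilbD.secGraph f T x hx * I.1 := by
  obtain ⟨I, hI, he⟩ := exists_sub (PicF.XTproj f T) hle (isFinLocFreeOfDeg_secGraph f T x hx) W.2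
  rw [Nat.add_sub_cancel] at hI
  exact ⟨⟨I, hI⟩, he⟩

/-- `H_d ×_S X` is the universal family over `H_{d+1}` -/
theorem addPoint_isFinLocFreeOfDeg {d : ℕ} {H : Over S} {Z : HilbD.Obj f d H}
    (hZ : HilbD.IsUniversal f d H Z) {H' : Over S} {Z' : HilbD.Obj f (d + 1) H'}
    (hZ' : HilbD.IsUniversal f (d + 1) H' Z') (m : Over.mk (pullback.fst H.hom f ≫ H.hom) ⟶ H')
    (hm : HilbD.pull f m Z'.1 =
      HilbD.pull f (Over.homMk (pullback.fst H.hom f) rfl : Over.mk (pullback.fst H.hom f ≫ H.hom) ⟶ H) Z.1 *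
        HilbD.secGraph f (Over.mk (pullback.fst H.hom f ≫ H.hom)) (pullback.snd H.hom f) pullback.condition.symm) :
    Mor2.IsFinLocFreeOfDeg (d + 1) m.left := by
  let T : Over S := Over.mk (pullback.fst H.hom f ≫ H.hom)
  let p : T ⟶ H := Over.homMk (pullback.fst H.hom f) rfl
  let x : T.left ⟶ X := pullback.snd H.hom f
  have hx : x ≫ f = T.hom := pullback.condition.symm
  let π₀ := Z'.1.subschemeι ≫ PicF.XTproj f H'
  let D : Over S := Over.mk (π₀ ≫ H'.hom)
  let π : D ⟶ H' := Over.homMk π₀ rfl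
  let y : D.left ⟶ X := Z'.1.subschemeι ≫ pullback.fst f H'.hom
  have hy : y ≫ f = D.hom := by
    show (Z'.1.subschemeι ≫ pullback.fst f H'.hom) ≫ f = (Z'.1.subschemeι ≫ pullback.snd f H'.hom) ≫ H'.hom
    rw [Category.assoc, Category.assoc, pullback.condition]
  have hgy : graph f D y hy ≫ PicF.XTmap f π = Z'.1.subschemeι := by
    apply pullback.hom_ext
    · simp [y]
    · simp [π, π₀]
  have hleD : (pullObj π Z').1 ≤ HilbD.secGraph f D y hy := by
    show HilbD.pull f π Z'.1 ≤ (graph f D y hy).ker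
    rw [pull_le_ker, hgy, Scheme.IdealSheafData.ker_subschemeι]
  obtain ⟨I, hI⟩ := exists_residual f (pullObj π Z') y hy hleD
  obtain ⟨h, hh, -⟩ := hZ D I
  -- the map to the product
  let b₀ : D.left ⟶ T.left := pullback.lift h.left y ((Over.w h).trans hy.symm)
  let b : D ⟶ T := Over.homMk b₀ (by
    show b₀ ≫ pullback.fst H.hom f ≫ H.hom = D.hom
    rw [pullback.lift_fst_assoc, Over.w h])
  have hbp : b ≫ p = h := by
    ext
    exact pullback.lift_fst _ _ _
  have hbx : b.left ≫ x = y := pullback.lift_snd _ _ _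
  have hbm : b ≫ m = π := by
    refine eq_of_pull_eq hZ' _ _ ?_
    rw [← pull_pull, hm, pull_mul, pull_secGraph, pull_pull]
    show HilbD.pull f (b ≫ p) Z.1 * _ = (pullObj π Z').1
    rw [hbp, hh, hI, mul_comm, secGraph_congr f hbx _ hy]
  -- the map to the universal family
  have hleT : Z'.1 ≤ (graph f T x hx ≫ PicF.XTmap f m).ker := by
    rw [← pull_le_ker, hm]
    exact mul_le_right' _ _
  obtain ⟨e₀, he₀⟩ := (le_ker_iff _ _).1 hleT
  have he1 : e₀ ≫ y = x := by
    show e₀ ≫ Z'.1.subschemeι ≫ pullback.fst f H'.hom = x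
    rw [reassoc_of% he₀]
    simp
  have he2 : e₀ ≫ π₀ = m.left := by
    show e₀ ≫ Z'.1.subschemeι ≫ pullback.snd f H'.hom = m.left
    rw [reassoc_of% he₀]
    simp
  let e : T ⟶ D := Over.homMk e₀ (by
    show e₀ ≫ π₀ ≫ H'.hom = T.hom
    rw [reassoc_of% he2, Over.w m])
  have heπ : e ≫ π = m := by
    ext
    exact he2
  have heh : e ≫ h = p := by
    refine eq_of_pull_eq hZ _ _ ?_
    refine cancel (PicF.XTproj f T) (isFinLocFreeOfDeg_secGraph f T x hx) ?_
    have he1' : e.left ≫ y = x := he1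
    rw [← pull_pull, hh, ← secGraph_congr f he1' (by rw [Category.assoc, hy]; exact Over.w e) hx,
      ← pull_secGraph f e y hy, ← pull_mul, ← hI]
    show HilbD.pull f e (HilbD.pull f π Z'.1) = _
    rw [pull_pull, heπ, hm, mul_comm, pull_secGraph,
      secGraph_congr f he1' _ hx]
  have heb : e₀ ≫ b₀ = 𝟙 T.left := by
    apply pullback.hom_ext
    · rw [Category.assoc, pullback.lift_fst, Category.id_comp]
      exact congrArg (fun q : T ⟶ H => q.left) heh
    · rw [Category.assoc, pullback.lift_snd, Category.id_comp]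
      exact he1
  have hbe : b₀ ≫ e₀ = 𝟙 D.left := by
    rw [← cancel_mono Z'.1.subschemeι, Category.assoc, he₀, Category.id_comp]
    apply pullback.hom_ext
    · rw [Category.assoc, Category.assoc, XTmap_fst, graph_fst]
      exact hbx
    · rw [Category.assoc, Category.assoc, XTmap_proj, graph_snd_assoc]
      exact congrArg (fun q : D ⟶ H' => q.left) hbm
  haveI : IsIso e₀ := ⟨b₀, heb, hbe⟩
  have hsq : IsPullback e₀ m.left π₀ (𝟙 H'.left) := IsPullback.of_horiz_isIso ⟨by rw [Category.comp_id, he2]⟩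
  exact isFinLocFreeOfDeg_of_isPullback hsq Z'.2

end Groth.CurveDiv
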