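import Groth.Agent.CurveDiv.HilbPts
import Groth.Agent.FppfSmooth.Basic

/-!
# Smoothness of the scheme of points of a smooth curve (helper78)
-/

set_option autoImplicit false
set_option linter.style.haveILetI false

universe u

open CategoryTheory CategoryTheory.Limits AlgebraicGeometry

namespace Groth.CurveDiv

open Groth.HilbPts

variable {X S : Scheme.{u}} (f : X ⟶ S)

lemma isFinLocFreeOfDeg_zero_of_isEmpty {Z : Scheme.{u}} [IsEmpty Z] (q : Z ⟶ S) :
    Mor2.IsFinLocFreeOfDeg 0 q := by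
  haveI : Flat q := ⟨fun {U} hU {V} hV e => by
    haveI : Subsingleton Γ(Z, V) := inferInstance
    let _ := (q.appLE U V e).hom.toAlgebra
    exact (inferInstance : Module.Flat Γ(S, U) Γ(Z, V))⟩
  refine ⟨⟨inferInstance, inferInstance, inferInstance⟩, fun y => ?_⟩
  obtain ⟨V, hV, hy, -⟩ := exists_isAffineOpen_mem_and_subset (x := y) (TopologicalSpace.Opens.mem_top y)
  rw [finrank_eq_rankAtStalk q hV hy]
  haveI : Subsingleton Γ(Z, q ⁻¹ᵁ V) := inferInstance
  simp [RingHom.finrank]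

lemma top_isFinLocFreeOfDeg_zero :
    Mor2.IsFinLocFreeOfDeg 0 ((⊤ : X.IdealSheafData).subschemeι ≫ f) := by
  haveI : IsEmpty (⊤ : X.IdealSheafData).subscheme := ⟨fun z => by
    have hz := (Set.ext_iff.1 (⊤ : X.IdealSheafData).range_subschemeι
      ((⊤ : X.IdealSheafData).subschemeι z)).1 ⟨z, rfl⟩
    simp at hz⟩
  exact isFinLocFreeOfDeg_zero_of_isEmpty _

theorem isIso_of_isUniversal_zero {H : Over S} {Z : HilbD.Obj f 0 H}
    (hZ : HilbD.IsUniversal f 0 H Z) : IsIso H.hom := by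
  obtain ⟨σ, -, -⟩ := hZ (Over.mk (𝟙 S)) ⟨⊤, top_isFinLocFreeOfDeg_zero _⟩
  let τ : H ⟶ Over.mk (𝟙 S) := Over.homMk H.hom (Category.comp_id _)
  have h : τ ≫ σ = 𝟙 H := eq_of_pull_eq hZ _ _
    ((eq_top_of_deg_zero (PicF.XTproj f H) (pullObj (τ ≫ σ) Z).2).trans
      (eq_top_of_deg_zero (PicF.XTproj f H) (pullObj (𝟙 H) Z).2).symm)
  exact ⟨σ.left, congrArg (fun q : H ⟶ H => q.left) h, Over.w σ⟩

variable [SmoothOfRelativeDimension 1 f] [IsSeparated f]

/-- the addition map -/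
theorem exists_addPoint {d : ℕ} {H : Over S} {Z : HilbD.Obj f d H}
    (hZ : HilbD.IsUniversal f d H Z) {H' : Over S} {Z' : HilbD.Obj f (d + 1) H'}
    (hZ' : HilbD.IsUniversal f (d + 1) H' Z') :
    ∃ m : (pullback H.hom f) ⟶ H'.left, m ≫ H'.hom = pullback.fst H.hom f ≫ H.hom ∧
      Mor2.IsFinLocFree m ∧ Surjective m := by
  let T : Over S := Over.mk (pullback.fst H.hom f ≫ H.hom)
  let p : T ⟶ H := Over.homMk (pullback.fst H.hom f) rfl
  let W : HilbD.Obj f (d + 1) T :=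
    ⟨HilbD.pull f p Z.1 * HilbD.secGraph f T (pullback.snd H.hom f) pullback.condition.symm,
      isFinLocFreeOfDeg_mul (PicF.XTproj f T) (pullObj p Z).2
        (isFinLocFreeOfDeg_secGraph f T _ _)⟩
  obtain ⟨m, hm, -⟩ := hZ' T W
  have h := addPoint_isFinLocFreeOfDeg f hZ hZ' m hm
  refine ⟨m.left, Over.w m, h.1, ?_⟩
  obtain ⟨⟨h1, h2, h3⟩, h4⟩ := h
  refine (Scheme.Hom.one_le_finrank_iff_surjective m.left).1 fun y => ?_
  rw [h4 y]
  exact Nat.le_add_left 1 d

theorem smooth_of_isUniversal (hrep : ∀ e : ℕ, HilbD.Representable f e) :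
    ∀ (d : ℕ) (H : Over S) (Z : HilbD.Obj f d H), HilbD.IsUniversal f d H Z → Smooth H.hom := by
  intro d
  induction d with
  | zero =>
    intro H Z hZ
    haveI := isIso_of_isUniversal_zero f hZ
    infer_instance
  | succ d ih =>
    intro H' Z' hZ'
    obtain ⟨H, Z, hZ⟩ := hrep d
    haveI := ih H Z hZ
    obtain ⟨m, hm, ⟨h1, h2, h3⟩, hs⟩ := exists_addPoint f hZ hZ'
    haveI : Smooth f := SmoothOfRelativeDimension.smooth 1 f
    haveI : Smooth (m ≫ H'.hom) := by rw [hm]; infer_instance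
    exact Groth.FppfSmooth.smooth_of_fppf m H'.hom

end Groth.CurveDiv
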