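import Mathlib

/-!
# Ranks for a sum of two divisors in a finite algebra (helper78)
-/

set_option autoImplicit false
set_option linter.style.haveILetI false

universe u

namespace Groth.CurveDiv

variable {R C : Type u} [CommRing R] [CommRing C] [Algebra R C] [Module.Finite R C]

/-- one element generates `K` at all primes over `p` -/
lemma exists_gen_over (p : Ideal R) [p.IsPrime] (K L : Ideal C)
    (hloc : ∀ q : Ideal C, q.IsPrime → ∃ a ∈ K, (∀ k ∈ K, ∃ g ∉ q, g * k ∈ Ideal.span {a}) ∧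
      ∀ c, c * a = 0 → ∃ g ∉ q, g * c ∈ L) :
    ∃ a ∈ K, ∀ q ∈ p.primesOver C, (∀ k ∈ K, ∃ g ∉ q, g * k ∈ Ideal.span {a}) ∧
      ∀ c, c * a = 0 → ∃ g ∉ q, g * c ∈ L := by
  classical
  have hfin : (p.primesOver C).Finite := Algebra.QuasiFinite.finite_primesOver p
  let P := hfin.toFinset
  have hmem : ∀ q, q ∈ P ↔ q.IsPrime ∧ q.LiesOver p := fun q => hfin.mem_toFinset
  have hinc : ∀ q ∈ P, ∀ q' ∈ P, q' ≤ q → q' = q := by
    intro q hq q' hq' hle
    by_contra hne
    haveI := ((hmem q').1 hq').1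
    have h1 := Ideal.IsIntegral.comap_lt_comap (R := R) (lt_of_le_of_ne hle hne)
    have hh : ∀ x ∈ P, x.comap (algebraMap R C) = p := fun x hx => (((hmem x).1 hx).2.over).symm
    rw [hh q hq, hh q' hq'] at h1
    exact lt_irrefl _ h1
  have ht : ∀ q ∈ P, ∀ q' ∈ P, q' ≠ q → ∃ t ∈ q', t ∉ q := fun q hq q' hq' hne =>
    Set.not_subset.1 fun hle => hne (hinc q hq q' hq' hle)
  choose! t ht' htn using ht
  let e : Ideal C → C := fun q => ∏ q' ∈ P.erase q, t q q'
  have he : ∀ q ∈ P, e q ∉ q := fun q hq h => by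
    haveI := ((hmem q).1 hq).1
    obtain ⟨q', hq', hq'2⟩ := (Ideal.IsPrime.prod_mem_iff).1 h
    rw [Finset.mem_erase] at hq'
    exact htn q hq q' hq'.2 hq'.1 hq'2
  have he' : ∀ q ∈ P, ∀ q' ∈ P, q' ≠ q → e q' ∈ q := fun q hq q' hq' hne => by
    obtain ⟨c, hc⟩ := Finset.dvd_prod_of_mem (t q') (Finset.mem_erase.2 ⟨hne.symm, hq⟩)
    show ∏ q'' ∈ P.erase q', t q' q'' ∈ q
    rw [hc]
    exact q.mul_mem_right _ (ht' q' hq' q hq hne.symm)
  choose! al hal hgen hann using hloc
  refine ⟨∑ q ∈ P, e q * al q, Ideal.sum_mem _ fun q hq =>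
    K.mul_mem_left _ (hal q ((hmem q).1 hq).1), fun q hq => ?_⟩
  have hqP : q ∈ P := hfin.mem_toFinset.2 hq
  haveI := hq.1
  obtain ⟨G, u, hG, hu, hGu⟩ : ∃ G u, G ∉ q ∧ u ∉ q ∧ G * (∑ q' ∈ P, e q' * al q') = u * al q := by
    have key : ∀ T : Finset (Ideal C), T ⊆ P → q ∉ T →
        ∃ G r, G ∉ q ∧ r ∈ q ∧ G * (∑ q' ∈ T, e q' * al q') = r * al q := by
      intro T
      induction T using Finset.induction_on with
      | empty => exact fun _ _ => ⟨1, 0, fun h => hq.1.ne_top ((Ideal.eq_top_iff_one q).2 h), q.zero_mem,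
          by simp⟩
      | insert j T hj ih =>
        intro hsub hnot
        obtain ⟨G, r, hG, hr, hGr⟩ := ih (fun x hx => hsub (Finset.mem_insert_of_mem hx))
          fun hx => hnot (Finset.mem_insert_of_mem hx)
        have hjP := hsub (Finset.mem_insert_self j T)
        have hjne : j ≠ q := fun h => hnot (h ▸ Finset.mem_insert_self j T)
        obtain ⟨g, hg, hgk⟩ := hgen q hq.1 _ (hal j ((hmem j).1 hjP).1)
        obtain ⟨c, hc⟩ := Ideal.mem_span_singleton'.1 hgk
        refine ⟨G * g, g * r + G * e j * c, hq.1.mul_notMem hG hg,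
          add_mem (q.mul_mem_left _ hr) (q.mul_mem_right _ (q.mul_mem_left _ (he' q hqP j hjP hjne))), ?_⟩
        rw [Finset.sum_insert hj]
        calc G * g * (e j * al j + ∑ q' ∈ T, e q' * al q')
            = G * e j * (g * al j) + g * (G * ∑ q' ∈ T, e q' * al q') := by ring
          _ = G * e j * (c * al q) + g * (r * al q) := by rw [hc, hGr]
          _ = (g * r + G * e j * c) * al q := by ring
    obtain ⟨G, r, hG, hr, hGr⟩ := key (P.erase q) (Finset.erase_subset _ _) (Finset.notMem_erase _ _)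
    refine ⟨G, G * e q + r, hG, fun h => ?_, ?_⟩
    · have := sub_mem h hr
      rw [add_sub_cancel_right] at this
      exact hq.1.mul_notMem hG (he q hqP) this
    · rw [← Finset.add_sum_erase _ _ hqP, mul_add, hGr]; ring
  refine ⟨fun k hk => ?_, fun c hc => ?_⟩
  · obtain ⟨g, hg, hgk⟩ := hgen q hq.1 k hk
    obtain ⟨r, hr⟩ := Ideal.mem_span_singleton'.1 hgk
    refine ⟨u * g, hq.1.mul_notMem hu hg, Ideal.mem_span_singleton'.2 ⟨r * G, ?_⟩⟩
    rw [mul_assoc r, hGu, mul_left_comm r, hr, mul_assoc]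
  · obtain ⟨g, hg, hgc⟩ := hann q hq.1 (c * u) (by
      rw [mul_assoc, ← hGu, mul_left_comm, hc, mul_zero])
    exact ⟨g * u, hq.1.mul_notMem hg hu, by rwa [mul_assoc, mul_comm u c]⟩

/-- an ideal avoiding no prime over `p` meets the image of the complement of `p` -/
lemma exists_notMem_of_over (p : Ideal R) [p.IsPrime] (J : Ideal C)
    (h : ∀ q ∈ p.primesOver C, ∃ g ∉ q, g ∈ J) : ∃ r ∉ p, algebraMap R C r ∈ J := by
  by_contra hne
  push Not at hne
  obtain ⟨Q, hQJ, hQ, hQp⟩ := Ideal.exists_ideal_over_prime_of_isIntegral p J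
    (fun r hr => by_contra fun hrp => hne r hrp hr)
  obtain ⟨g, hg, hgJ⟩ := h Q ⟨hQ, ⟨hQp.symm⟩⟩
  exact hg (hQJ hgJ)

/-- the rank of a finite algebra cut out by a product of two locally principal ideals -/
theorem rankAtStalk_add (K L : Ideal C) (hKL : K * L = ⊥) [Module.Flat R (C ⧸ K)]
    [Module.Flat R (C ⧸ L)]
    (hloc : ∀ q : Ideal C, q.IsPrime → ∃ a ∈ K, (∀ k ∈ K, ∃ g ∉ q, g * k ∈ Ideal.span {a}) ∧
      ∀ c, c * a = 0 → ∃ g ∉ q, g * c ∈ L)
    (p : PrimeSpectrum R) :
    Module.rankAtStalk C p = Module.rankAtStalk (C ⧸ K) p + Module.rankAtStalk (C ⧸ L) p := by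
  obtain ⟨a, haK, ha⟩ := exists_gen_over p.asIdeal K L hloc
  let M := p.asIdeal.primeCompl
  let φ : (C ⧸ L) →ₗ[R] C :=
    (Submodule.liftQ (L : Submodule C C) (LinearMap.mulRight C a) (fun l hl => by
      have hal : a * l ∈ K * L := Ideal.mul_mem_mul haK hl
      rw [hKL, Submodule.mem_bot] at hal
      simpa [mul_comm] using hal)).restrictScalars R
  have hφ : ∀ c : C, φ (Ideal.Quotient.mk L c) = c * a := fun c => rfl
  let π : C →ₗ[R] C ⧸ K := (Ideal.Quotient.mkₐ R K).toLinearMap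
  have hπφ : ∀ c, π (φ c) = 0 := fun c => by
    obtain ⟨c, rfl⟩ := Ideal.Quotient.mk_surjective c
    rw [hφ]
    exact Ideal.Quotient.eq_zero_iff_mem.2 (K.mul_mem_left c haK)
  let φp := IsLocalizedModule.map M (LocalizedModule.mkLinearMap M (C ⧸ L)) (LocalizedModule.mkLinearMap M C) φ
  let πp := IsLocalizedModule.map M (LocalizedModule.mkLinearMap M C) (LocalizedModule.mkLinearMap M (C ⧸ K)) π
  have hinj : Function.Injective φp := by
    rw [injective_iff_map_eq_zero]
    intro x hx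
    obtain ⟨⟨x, s⟩, rfl⟩ := IsLocalizedModule.mk'_surjective M (LocalizedModule.mkLinearMap M (C ⧸ L)) x
    obtain ⟨c, rfl⟩ := Ideal.Quotient.mk_surjective x
    simp only [Function.uncurry_apply_pair, φp, IsLocalizedModule.map_mk', hφ] at hx ⊢
    rw [IsLocalizedModule.mk'_eq_zero'] at hx ⊢
    obtain ⟨m, hm⟩ := hx
    rw [Submonoid.smul_def, Algebra.smul_def] at hm
    obtain ⟨r, hr, hrJ⟩ := exists_notMem_of_over p.asIdeal (L.colon {algebraMap R C m * c}) fun q hq => by
      obtain ⟨g, hg, hgL⟩ := (ha q hq).2 (algebraMap R C m * c) (by rw [mul_assoc, hm])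
      exact ⟨g, hg, Submodule.mem_colon_singleton.2 hgL⟩
    refine ⟨⟨r, hr⟩ * m, ?_⟩
    rw [Submonoid.smul_def, Submonoid.coe_mul, ← Ideal.Quotient.mk_eq_mk, ← Submodule.Quotient.mk_smul,
      Submodule.Quotient.mk_eq_zero, Algebra.smul_def, map_mul, mul_assoc]
    exact Submodule.mem_colon_singleton.1 hrJ
  have hexact : Function.Exact φp πp := by
    intro y
    obtain ⟨⟨c, s⟩, rfl⟩ := IsLocalizedModule.mk'_surjective M (LocalizedModule.mkLinearMap M C) y
    constructor
    · intro hy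
      simp only [Function.uncurry_apply_pair, πp, IsLocalizedModule.map_mk'] at hy
      rw [IsLocalizedModule.mk'_eq_zero'] at hy
      obtain ⟨m, hm⟩ := hy
      have hk : algebraMap R C m * c ∈ K := by
        rw [← Ideal.Quotient.eq_zero_iff_mem, map_mul]
        rw [Submonoid.smul_def, Algebra.smul_def] at hm
        exact hm
      obtain ⟨r, hr, hrJ⟩ := exists_notMem_of_over p.asIdeal
        ((Ideal.span {a}).colon {algebraMap R C m * c}) fun q hq => by
          obtain ⟨g, hg, hgK⟩ := (ha q hq).1 _ hk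
          exact ⟨g, hg, Submodule.mem_colon_singleton.2 hgK⟩
      obtain ⟨d, hd⟩ := Ideal.mem_span_singleton'.1 (Submodule.mem_colon_singleton.1 hrJ)
      refine ⟨IsLocalizedModule.mk' (LocalizedModule.mkLinearMap M (C ⧸ L)) (Ideal.Quotient.mk L d)
        (⟨r, hr⟩ * m * s), ?_⟩
      simp only [φp, IsLocalizedModule.map_mk', hφ, Function.uncurry_apply_pair]
      have he : d * a = ((⟨r, hr⟩ : M) * m) • c := by
        rw [hd, smul_eq_mul]
        show _ = (r * (m : R)) • c
        rw [Algebra.smul_def, map_mul, mul_assoc]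
      rw [he]
      exact IsLocalizedModule.mk'_cancel_left _ _ _ _
    · rintro ⟨x, hx⟩
      rw [← hx]
      obtain ⟨⟨x, t⟩, rfl⟩ := IsLocalizedModule.mk'_surjective M (LocalizedModule.mkLinearMap M (C ⧸ L)) x
      simp [φp, πp, hπφ]
  have hsurj : Function.Surjective πp := IsLocalizedModule.map_surjective M _ _ _ Ideal.Quotient.mk_surjective
  let Rp := Localization.AtPrime p.asIdeal
  let φp' : LocalizedModule M (C ⧸ L) →ₗ[Rp] LocalizedModule M C :=
    φp.extendScalarsOfIsLocalization M Rp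
  let πp' : LocalizedModule M C →ₗ[Rp] LocalizedModule M (C ⧸ K) :=
    πp.extendScalarsOfIsLocalization M Rp
  haveI : Module.Free Rp (LocalizedModule M (C ⧸ K)) := Module.free_of_flat_of_isLocalRing
  haveI : Module.Free Rp (LocalizedModule M (C ⧸ L)) := Module.free_of_flat_of_isLocalRing
  obtain ⟨σ, hσ⟩ := Module.projective_lifting_property πp' LinearMap.id hsurj
  obtain ⟨e, -⟩ := Function.Exact.splitSurjectiveEquiv (f := φp') (g := πp') hexact hinj ⟨σ, hσ⟩
  show Module.finrank Rp (LocalizedModule M C) = Module.finrank Rp (LocalizedModule M (C ⧸ K)) +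
    Module.finrank Rp (LocalizedModule M (C ⧸ L))
  rw [e.finrank_eq, Module.finrank_prod, add_comm]

end Groth.CurveDiv
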