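import Groth.Agent.CurveDiv.HilbPts

/-!
# Splitting a relative divisor after a finite locally free base change (helper78)
-/

set_option autoImplicit false
set_option linter.style.haveILetI false

universe u

open CategoryTheory CategoryTheory.Limits AlgebraicGeometry

namespace Groth.CurveDiv

open Groth.HilbPts

variable {X S : Scheme.{u}} (f : X ⟶ S)

lemma ker_snd_subschemeι {Y W : Scheme.{u}} (I : Y.IdealSheafData) (h : W ⟶ Y) :
    (pullback.snd I.subschemeι h).ker = I.comap h := by
  refine ideal_ext fun V x => ?_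
  rw [← Scheme.IdealSheafData.le_map_iff_comap_le, Scheme.IdealSheafData.map_ker,
    ← exists_fac_iff_ker_le, le_ker_iff]
  constructor
  · rintro ⟨z, rfl⟩
    exact ⟨z ≫ pullback.fst _ _, by rw [Category.assoc, Category.assoc, pullback.condition]⟩
  · rintro ⟨z, hz⟩
    exact ⟨pullback.lift z x hz, pullback.lift_snd _ _ _⟩

variable [SmoothOfRelativeDimension 1 f] [IsSeparated f]

/-- a family of degree `d` becomes a sum of `d` graphs after an fppf base change -/
theorem exists_split (d : ℕ) : ∀ (T : Over S) (W : HilbD.Obj f d T),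
    ∃ (T' : Over S) (g : T' ⟶ T), Flat g.left ∧ Surjective g.left ∧
      LocallyOfFinitePresentation g.left ∧
      ∃ (x : Fin d → (T'.left ⟶ X)) (hx : ∀ i, x i ≫ f = T'.hom),
        HilbD.pull f g W.1 = ∏ i, HilbD.secGraph f T' (x i) (hx i) := by
  induction d with
  | zero =>
    intro T W
    have e : (𝟙 T : T ⟶ T).left = 𝟙 T.left := rfl
    refine ⟨T, 𝟙 T, e ▸ inferInstance, e ▸ inferInstance, e ▸ inferInstance, Fin.elim0,
      fun i => i.elim0, ?_⟩
    rw [pull_id, Finset.univ_eq_empty, Finset.prod_empty, Scheme.IdealSheafData.one_eq_top]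
    exact eq_top_of_deg_zero _ W.2
  | succ d ih =>
    intro T W
    let π₀ := W.1.subschemeι ≫ PicF.XTproj f T
    let T₁ : Over S := Over.mk (π₀ ≫ T.hom)
    let g₁ : T₁ ⟶ T := Over.homMk π₀ rfl
    let y : T₁.left ⟶ X := W.1.subschemeι ≫ pullback.fst f T.hom
    have hy : y ≫ f = T₁.hom := by
      show (W.1.subschemeι ≫ pullback.fst f T.hom) ≫ f = (W.1.subschemeι ≫ pullback.snd f T.hom) ≫ T.hom
      rw [Category.assoc, Category.assoc, pullback.condition]
    have hgy : graph f T₁ y hy ≫ PicF.XTmap f g₁ = W.1.subschemeι := by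
      apply pullback.hom_ext
      · simp [y]
      · simp [g₁, π₀]
    have hle : (pullObj g₁ W).1 ≤ HilbD.secGraph f T₁ y hy := by
      show HilbD.pull f g₁ W.1 ≤ (graph f T₁ y hy).ker
      rw [pull_le_ker, hgy, Scheme.IdealSheafData.ker_subschemeι]
    obtain ⟨I, hI⟩ := exists_residual f (pullObj g₁ W) y hy hle
    obtain ⟨T', g, hg1, hg2, hg3, x, hx, he⟩ := ih T₁ I
    obtain ⟨⟨h1, h2, h3⟩, h4⟩ := W.2
    haveI : Surjective π₀ := (Scheme.Hom.one_le_finrank_iff_surjective π₀).1 fun z => by
      rw [h4 z]; exact Nat.le_add_left 1 d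
    have e : (g ≫ g₁).left = g.left ≫ π₀ := rfl
    refine ⟨T', g ≫ g₁, e ▸ inferInstance, e ▸ inferInstance, e ▸ inferInstance,
      Fin.cons (g.left ≫ y) x, Fin.cases (by simp only [Fin.cons_zero, Category.assoc, hy]; exact Over.w g)
        (fun i => by simpa using hx i), ?_⟩
    rw [← pull_pull]
    show HilbD.pull f g (pullObj g₁ W).1 = _
    rw [hI, pull_mul, pull_secGraph, he, Fin.prod_univ_succ]
    simp only [Fin.cons_zero, Fin.cons_succ]

/-- a relative divisor becomes a sum of sections after an fppf base change -/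
theorem exists_baseChange_split {d : ℕ} (I : X.IdealSheafData)
    (hD : Mor2.IsFinLocFreeOfDeg d (I.subschemeι ≫ f)) :
    ∃ (S' : Scheme.{u}) (b : S' ⟶ S), Flat b ∧ Surjective b ∧ LocallyOfFinitePresentation b ∧
      ∃ σ : Fin d → (S' ⟶ pullback f b), (∀ i, σ i ≫ pullback.snd f b = 𝟙 S') ∧
        (pullback.snd I.subschemeι (pullback.fst f b)).ker = ∏ i, (σ i).ker := by
  let T : Over S := Over.mk (𝟙 S)
  let W : HilbD.Obj f d T := ⟨(pullback.snd I.subschemeι (pullback.fst f T.hom)).ker,
    (isFinLocFreeOfDeg_ker (pullback.snd I.subschemeι (pullback.fst f T.hom)) _ d).2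
      (isFinLocFreeOfDeg_of_isPullback
        ((IsPullback.of_hasPullback I.subschemeι (pullback.fst f T.hom)).paste_vert
          (IsPullback.of_hasPullback f T.hom)) hD)⟩
  obtain ⟨T', g, h1, h2, h3, x, hx, he⟩ := exists_split f d T W
  have hb : g.left = T'.hom := by
    have := Over.w g
    simpa [T] using this
  refine ⟨T'.left, T'.hom, hb ▸ h1, hb ▸ h2, hb ▸ h3, fun i => graph f T' (x i) (hx i),
    fun i => pullback.lift_snd _ _ _, ?_⟩
  rw [ker_snd_subschemeι, ← XTmap_fst f g, Scheme.IdealSheafData.comap_comp,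
    ← pull_eq_comap, ← ker_snd_subschemeι]
  exact he

end Groth.CurveDiv
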