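import Groth.Agent.CurveDiv.Main
import Groth.Agent.CurveDiv.Rank
import Groth.Agent.AdicLinTop.Thickenings
import Groth.Agent.AdicLinTop.SysExamples

/-!
# Sums of relative divisors on smooth curves (helper78)
-/

set_option autoImplicit false
set_option linter.style.haveILetI false

universe u

open CategoryTheory CategoryTheory.Limits AlgebraicGeometry IsLocalRing TopologicalSpace

namespace Groth.CurveDiv

open Groth.Divisors

variable {X S : Scheme.{u}}

lemma finrank_eq_rankAtStalk {Z : Scheme.{u}} (q : Z ⟶ S) [IsFinite q] [Flat q] {V : S.Opens}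
    (hV : IsAffineOpen V) {y : S} (hy : y ∈ V) :
    q.finrank y = (q.appLE V (q ⁻¹ᵁ V) le_rfl).hom.finrank (hV.primeIdealOf ⟨y, hy⟩) := by
  have hU : IsAffineOpen (q ⁻¹ᵁ V) := hV.preimage q
  have hsq : IsPullback hU.fromSpec (Spec.map (q.appLE V (q ⁻¹ᵁ V) le_rfl)) q hV.fromSpec :=
    (IsOpenImmersion.isPullback _ hU.fromSpec hV.fromSpec q
      (hV.SpecMap_appLE_fromSpec q hU le_rfl).symm
      (by rw [hV.opensRange_fromSpec, hU.opensRange_fromSpec])).flip
  have h := Scheme.Hom.finrank_of_isPullback _ _ _ _ hsq (hV.primeIdealOf ⟨y, hy⟩)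
  rw [hV.fromSpec_primeIdealOf] at h
  rw [← h, Scheme.Hom.finrank_SpecMap_eq_finrank]
  · have := IsFinite.finite_app (f := q) V hV
    rwa [Scheme.Hom.app_eq_appLE] at this
  · exact q.flat_appLE hV hU le_rfl

lemma map_germ_comap {Z : Scheme.{u}} (I : X.IdealSheafData) (i : Z ⟶ X) [IsAffineHom i]
    {U : Z.affineOpens} {z : Z} (hz : z ∈ U.1) {W : X.affineOpens} (hW : i z ∈ W.1) :
    ((I.comap i).ideal U).map (Z.presheaf.germ U.1 z hz).hom =
      ((I.ideal W).map (X.presheaf.germ W.1 (i z) hW).hom).map (i.stalkMap z).hom := by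
  rw [Groth.RefRank.EffCartierLocal.map_germ_eq (I.comap i) (W := ⟨i ⁻¹ᵁ W.1, W.2.preimage i⟩) hz hW,
    ideal_comap_affine I i W ⟨i ⁻¹ᵁ W.1, W.2.preimage i⟩ le_rfl, Ideal.map_map, Ideal.map_map]
  congr 1
  rw [← CommRingCat.hom_comp, ← CommRingCat.hom_comp, ← Scheme.Hom.app_eq_appLE]
  exact congrArg CommRingCat.Hom.hom (Scheme.Hom.germ_stalkMap i W.1 z hW).symm

/-- two closed subschemes finite over `S` have a sum which is finite as soon as it is quasi-finite -/
theorem isFinite_mul (f : X ⟶ S) (I J : X.IdealSheafData) [IsFinite (I.subschemeι ≫ f)]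
    [IsFinite (J.subschemeι ≫ f)] [LocallyOfFiniteType ((I * J).subschemeι ≫ f)]
    [LocallyQuasiFinite ((I * J).subschemeι ≫ f)] : IsFinite ((I * J).subschemeι ≫ f) := by
  have hI : I * J ≤ I := fun U => by
    simp only [Scheme.IdealSheafData.ideal_mul, Pi.mul_apply]; exact Ideal.mul_le_left
  have hJ : I * J ≤ J := fun U => by
    simp only [Scheme.IdealSheafData.ideal_mul, Pi.mul_apply]; exact Ideal.mul_le_right
  let q := (I * J).subschemeι ≫ f
  let j₁ := Scheme.IdealSheafData.inclusion hI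
  let j₂ := Scheme.IdealSheafData.inclusion hJ
  have e₁ : j₁ ≫ q = I.subschemeι ≫ f := Scheme.IdealSheafData.inclusion_subschemeι_assoc hI f
  have e₂ : j₂ ≫ q = J.subschemeι ≫ f := Scheme.IdealSheafData.inclusion_subschemeι_assoc hJ f
  have hcov : ∀ z, (∃ a, j₁ a = z) ∨ ∃ b, j₂ b = z := fun z => by
    have hz : (I * J).subschemeι z ∈ Set.range (I * J).subschemeι := ⟨z, rfl⟩
    rw [Scheme.IdealSheafData.range_subschemeι, Scheme.IdealSheafData.support_mul] at hz
    have key : ∀ (K : X.IdealSheafData) (h : I * J ≤ K), (I * J).subschemeι z ∈ K.support →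
        ∃ a, Scheme.IdealSheafData.inclusion h a = z := fun K h hk => by
      obtain ⟨a, ha⟩ := (Set.ext_iff.1 K.range_subschemeι _).2 hk
      refine ⟨a, (I * J).subschemeι.isEmbedding.injective ?_⟩
      rw [← Scheme.Hom.comp_apply, Scheme.IdealSheafData.inclusion_subschemeι]
      exact ha
    rcases hz with h | h
    · exact Or.inl (key I hI h)
    · exact Or.inr (key J hJ h)
  have hdiag : ∀ {Y : Scheme.{u}} (j : Y ⟶ (I * J).subscheme) [IsClosedImmersion j]
      [IsSeparated (j ≫ q)], IsClosedImmersion (j ≫ pullback.diagonal q) := by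
    intro Y j _ _
    have he : j ≫ pullback.diagonal q = pullback.diagonal (j ≫ q) ≫
        pullback.map (j ≫ q) (j ≫ q) q q j j (𝟙 S) (Category.comp_id _) (Category.comp_id _) := by
      apply pullback.hom_ext <;>
        simp [pullback.map, pullback.lift_fst, pullback.lift_snd]
    rw [he]
    haveI : IsClosedImmersion (pullback.map (j ≫ q) (j ≫ q) q q j j (𝟙 S) (Category.comp_id _) (Category.comp_id _)) :=
      MorphismProperty.pullbackMap (P := @IsClosedImmersion) inferInstance inferInstance rfl rfl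
    infer_instance
  haveI : IsSeparated (j₁ ≫ q) := by rw [e₁]; infer_instance
  haveI : IsSeparated (j₂ ≫ q) := by rw [e₂]; infer_instance
  haveI := hdiag j₁
  haveI := hdiag j₂
  haveI : IsSeparated q := by
    refine ⟨IsClosedImmersion.of_isPreimmersion _ ?_⟩
    have : Set.range (pullback.diagonal q) =
        Set.range (j₁ ≫ pullback.diagonal q) ∪ Set.range (j₂ ≫ pullback.diagonal q) := by
      ext w
      constructor
      · rintro ⟨z, rfl⟩
        rcases hcov z with ⟨a, rfl⟩ | ⟨a, rfl⟩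
        · exact Or.inl ⟨a, by simp⟩
        · exact Or.inr ⟨a, by simp⟩
      · rintro (⟨a, rfl⟩ | ⟨a, rfl⟩)
        · exact ⟨j₁ a, by simp⟩
        · exact ⟨j₂ a, by simp⟩
    rw [this]
    exact (j₁ ≫ pullback.diagonal q).isClosedEmbedding.isClosed_range.union
      (j₂ ≫ pullback.diagonal q).isClosedEmbedding.isClosed_range
  haveI : Surjective (coprod.desc j₁ j₂) := ⟨fun z => by
    rcases hcov z with ⟨a, rfl⟩ | ⟨a, rfl⟩
    · exact ⟨(coprod.inl : _ ⟶ I.subscheme ⨿ J.subscheme) a, by rw [← Scheme.Hom.comp_apply, coprod.inl_desc]⟩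
    · exact ⟨(coprod.inr : _ ⟶ I.subscheme ⨿ J.subscheme) a, by rw [← Scheme.Hom.comp_apply, coprod.inr_desc]⟩⟩
  haveI : IsFinite (j₁ ≫ q) := by rw [e₁]; infer_instance
  haveI : IsFinite (j₂ ≫ q) := by rw [e₂]; infer_instance
  have hcd : coprod.desc (j₁ ≫ q) (j₂ ≫ q) = coprod.desc j₁ j₂ ≫ q := by
    apply coprod.hom_ext <;> simp
  haveI : IsFinite (coprod.desc j₁ j₂ ≫ q) := hcd ▸ inferInstance
  haveI : UniversallyClosed q := UniversallyClosed.of_comp_surjective (coprod.desc j₁ j₂) q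
  haveI : IsProper q := { }
  exact IsFinite.of_isProper_of_locallyQuasiFinite q

/-- the degree of a closed subscheme, as the rank of a quotient of the sections of the ambient one -/
lemma finrank_quot {Y Z : Scheme.{u}} (j : Y ⟶ Z) [IsClosedImmersion j] (q : Z ⟶ S) [IsAffineHom q]
    [IsFinite (j ≫ q)] [Flat (j ≫ q)] {V : S.Opens} (hV : IsAffineOpen V) {y : S} (hy : y ∈ V) :
    letI := (q.appLE V (q ⁻¹ᵁ V) le_rfl).hom.toAlgebra
    Module.Flat Γ(S, V) (Γ(Z, q ⁻¹ᵁ V) ⧸ j.ker.ideal ⟨q ⁻¹ᵁ V, hV.preimage q⟩) ∧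
      (j ≫ q).finrank y =
        Module.rankAtStalk (Γ(Z, q ⁻¹ᵁ V) ⧸ j.ker.ideal ⟨q ⁻¹ᵁ V, hV.preimage q⟩)
          (hV.primeIdealOf ⟨y, hy⟩) := by
  letI := (q.appLE V (q ⁻¹ᵁ V) le_rfl).hom.toAlgebra
  have hU : IsAffineOpen (q ⁻¹ᵁ V) := hV.preimage q
  let ψ := ((j ≫ q).appLE V (j ⁻¹ᵁ (q ⁻¹ᵁ V)) le_rfl).hom
  letI : Algebra Γ(S, V) Γ(Y, j ⁻¹ᵁ (q ⁻¹ᵁ V)) := ψ.toAlgebra
  let φ : Γ(Z, q ⁻¹ᵁ V) →ₐ[Γ(S, V)] Γ(Y, j ⁻¹ᵁ (q ⁻¹ᵁ V)) :=
    { (j.app (q ⁻¹ᵁ V)).hom with
      commutes' := fun r => by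
        show (q.appLE V (q ⁻¹ᵁ V) le_rfl ≫ j.app (q ⁻¹ᵁ V)).hom r = ψ r
        congr 2
        rw [Scheme.Hom.app_eq_appLE, Scheme.Hom.appLE_comp_appLE] }
  have hk : RingHom.ker φ = j.ker.ideal ⟨q ⁻¹ᵁ V, hU⟩ := (j.ker_apply ⟨q ⁻¹ᵁ V, hU⟩).symm
  let e := (Ideal.quotientEquivAlgOfEq Γ(S, V) hk.symm).trans
    (Ideal.quotientKerAlgEquivOfSurjective (f := φ) (j.app_surjective _ hU))
  haveI : Module.Flat Γ(S, V) Γ(Y, j ⁻¹ᵁ (q ⁻¹ᵁ V)) :=
    (j ≫ q).flat_appLE hV (hU.preimage j) le_rfl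
  refine ⟨Module.Flat.of_linearEquiv e.toLinearEquiv, ?_⟩
  rw [Module.rankAtStalk_eq_of_equiv e.toLinearEquiv]
  exact finrank_eq_rankAtStalk (j ≫ q) hV hy

set_option maxHeartbeats 1000000 in
/-- the sum of two relative divisors on a smooth curve -/
theorem isFinLocFree_mul (f : X ⟶ S) [SmoothOfRelativeDimension 1 f] {I J : X.IdealSheafData}
    (hI : Mor2.IsFinLocFree (I.subschemeι ≫ f)) (hJ : Mor2.IsFinLocFree (J.subschemeι ≫ f)) :
    Mor2.IsFinLocFree ((I * J).subschemeι ≫ f) ∧ ∀ y : S, ((I * J).subschemeι ≫ f).finrank y =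
      (I.subschemeι ≫ f).finrank y + (J.subschemeι ≫ f).finrank y := by
  obtain ⟨hI1, hI2, hI3⟩ := hI
  obtain ⟨hJ1, hJ2, hJ3⟩ := hJ
  have hIc := isEffCartierIdeal_of_lqf f (I := I)
  have hJc := isEffCartierIdeal_of_lqf f (I := J)
  have hc := isEffCartierIdeal_mul hIc hJc
  haveI hflat := Groth.RefRank.RelDiv.flat_mul f hIc hJc hI2 hJ2
  haveI := lqf_of_isEffCartierIdeal f hc
  haveI := lfp_of_isEffCartierIdeal f hc
  haveI := isFinite_mul f I J
  refine ⟨⟨inferInstance, inferInstance, inferInstance⟩, fun y => ?_⟩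
  obtain ⟨V, hV, hy, -⟩ := exists_isAffineOpen_mem_and_subset (x := y) (Opens.mem_top y)
  let ι := (I * J).subschemeι
  let q := ι ≫ f
  have hU : IsAffineOpen (q ⁻¹ᵁ V) := hV.preimage q
  have hle₁ : I * J ≤ I := fun U => by
    simp only [Scheme.IdealSheafData.ideal_mul, Pi.mul_apply]; exact Ideal.mul_le_left
  have hle₂ : I * J ≤ J := fun U => by
    simp only [Scheme.IdealSheafData.ideal_mul, Pi.mul_apply]; exact Ideal.mul_le_right
  let j₁ := Scheme.IdealSheafData.inclusion hle₁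
  let j₂ := Scheme.IdealSheafData.inclusion hle₂
  have e₁ : j₁ ≫ q = I.subschemeι ≫ f := Scheme.IdealSheafData.inclusion_subschemeι_assoc hle₁ f
  have e₂ : j₂ ≫ q = J.subschemeι ≫ f := Scheme.IdealSheafData.inclusion_subschemeι_assoc hle₂ f
  haveI : IsFinite (j₁ ≫ q) := by rw [e₁]; infer_instance
  haveI : IsFinite (j₂ ≫ q) := by rw [e₂]; infer_instance
  haveI : Flat (j₁ ≫ q) := by rw [e₁]; infer_instance
  haveI : Flat (j₂ ≫ q) := by rw [e₂]; infer_instance
  letI := (q.appLE V (q ⁻¹ᵁ V) le_rfl).hom.toAlgebra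
  obtain ⟨hf₁, hr₁⟩ := finrank_quot j₁ q hV hy
  obtain ⟨hf₂, hr₂⟩ := finrank_quot j₂ q hV hy
  replace hr₁ : (I.subschemeι ≫ f).finrank y = _ := e₁ ▸ hr₁
  replace hr₂ : (J.subschemeι ≫ f).finrank y = _ := e₂ ▸ hr₂
  haveI := hf₁
  haveI := hf₂
  haveI : Module.Finite Γ(S, V) Γ((I * J).subscheme, q ⁻¹ᵁ V) := by
    have := IsFinite.finite_app (f := q) V hV
    rwa [Scheme.Hom.app_eq_appLE] at this
  have hk₁ : j₁.ker = I.comap ι := Groth.AdicLinTop.Thickenings.ker_inclusion hle₁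
  have hk₂ : j₂.ker = J.comap ι := Groth.AdicLinTop.Thickenings.ker_inclusion hle₂
  let U : ((I * J).subscheme).affineOpens := ⟨q ⁻¹ᵁ V, hU⟩
  have h := rankAtStalk_add (R := Γ(S, V)) (C := Γ((I * J).subscheme, q ⁻¹ᵁ V))
    (j₁.ker.ideal U) (j₂.ker.ideal U) ?_ ?_ (hV.primeIdealOf ⟨y, hy⟩)
  · rw [finrank_eq_rankAtStalk q hV hy, hr₁, hr₂]
    exact h
  · have h0 : ι.ker.comap ι = ⊥ := Groth.AdicLinTop.Thickenings.ker_comap_self ι
    rw [Scheme.IdealSheafData.ker_subschemeι, comap_mul] at h0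
    have h1 := congrArg (fun K : ((I * J).subscheme).IdealSheafData => K.ideal U) h0
    simp only [Scheme.IdealSheafData.ideal_mul, Pi.mul_apply, Scheme.IdealSheafData.ideal_bot, Pi.bot_apply] at h1
    rw [hk₁, hk₂]
    exact h1
  · intro P hP
    obtain ⟨z, hz⟩ : ∃ z, hU.fromSpec ⟨P, hP⟩ = z := ⟨_, rfl⟩
    have hzU : z ∈ q ⁻¹ᵁ V := by
      have : z ∈ Set.range hU.fromSpec := ⟨_, hz⟩
      rwa [hU.range_fromSpec] at this
    have hPz : (hU.primeIdealOf ⟨z, hzU⟩).asIdeal = P := by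
      have : hU.primeIdealOf ⟨z, hzU⟩ = ⟨P, hP⟩ := hU.fromSpec.isOpenEmbedding.injective (by
        rw [hU.fromSpec_primeIdealOf, hz])
      rw [this]
    subst hPz
    obtain ⟨W, hxW, -⟩ := exists_affine_le (ι z) ⊤ trivial
    obtain ⟨a, ha, hIa⟩ := Groth.RefRank.RelDiv.exists_stalk_gen hIc hxW
    obtain ⟨b, -, hJb⟩ := Groth.RefRank.RelDiv.exists_stalk_gen hJc hxW
    letI := TopCat.Presheaf.algebra_section_stalk (I * J).subscheme.presheaf ⟨z, hzU⟩
    haveI := hU.isLocalization_stalk ⟨z, hzU⟩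
    let Q := (hU.primeIdealOf ⟨z, hzU⟩).asIdeal
    let φ := (ι.stalkMap z).hom
    have hK : (j₁.ker.ideal U).map (algebraMap _ ((I * J).subscheme.presheaf.stalk z)) =
        Ideal.span {φ a} := by
      rw [hk₁]
      refine (map_germ_comap I ι (U := U) hzU hxW).trans ?_
      rw [hIa, Ideal.map_span, Set.image_singleton]
    have hL : (j₂.ker.ideal U).map (algebraMap _ ((I * J).subscheme.presheaf.stalk z)) =
        Ideal.span {φ b} := by
      rw [hk₂]
      refine (map_germ_comap J ι (U := U) hzU hxW).trans ?_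
      rw [hJb, Ideal.map_span, Set.image_singleton]
    have hker : RingHom.ker φ = Ideal.span {a * b} := by
      rw [Groth.Ega4b.ker_stalkMap_eq_map ι W.2 z hxW, Scheme.IdealSheafData.ker_subschemeι,
        Scheme.IdealSheafData.ideal_mul, Pi.mul_apply, Ideal.map_mul, hIa, hJb,
        Ideal.span_singleton_mul_span_singleton]
    obtain ⟨⟨⟨a₀, ha₀⟩, t⟩, hat⟩ :=
      (IsLocalization.mem_map_algebraMap_iff Q.primeCompl ((I * J).subscheme.presheaf.stalk z)).1
        (hK.ge (Ideal.mem_span_singleton_self (φ a)))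
    have hu := IsLocalization.map_units ((I * J).subscheme.presheaf.stalk z) t
    refine ⟨a₀, ha₀, fun k hk => ?_, fun c hc => ?_⟩
    · have h1 : algebraMap _ ((I * J).subscheme.presheaf.stalk z) k ∈
          (Ideal.span {a₀}).map (algebraMap _ ((I * J).subscheme.presheaf.stalk z)) := by
        rw [Ideal.map_span, Set.image_singleton, ← hat, Ideal.span_singleton_mul_right_unit hu, ← hK]
        exact Ideal.mem_map_of_mem _ hk
      exact (IsLocalization.algebraMap_mem_map_algebraMap_iff Q.primeCompl _ _ _).1 h1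
    · refine (IsLocalization.algebraMap_mem_map_algebraMap_iff Q.primeCompl
        ((I * J).subscheme.presheaf.stalk z) _ _).1 ?_
      rw [hL]
      let γ : Γ((I * J).subscheme, q ⁻¹ᵁ V) →+* (I * J).subscheme.presheaf.stalk z :=
        algebraMap Γ((I * J).subscheme, q ⁻¹ᵁ V) ((I * J).subscheme.presheaf.stalk z)
      obtain ⟨c', hc'⟩ : ∃ c', φ c' = γ c := ι.stalkMap_surjective z (γ c)
      have h0 : φ (c' * a) = 0 := by
        refine hu.mul_left_eq_zero.1 ?_
        rw [map_mul, mul_assoc, hc']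
        calc γ c * (φ a * γ (t : Γ((I * J).subscheme, q ⁻¹ᵁ V))) = γ c * γ a₀ := congrArg (γ c * ·) hat
          _ = γ (c * a₀) := (map_mul γ c a₀).symm
          _ = 0 := by rw [hc, map_zero]
      rw [← RingHom.mem_ker, hker, Ideal.mem_span_singleton'] at h0
      obtain ⟨r, hr⟩ := h0
      have hcb : c' = r * b := (mul_cancel_right_mem_nonZeroDivisors ha).1 (by
        rw [← hr]; ring)
      rw [← hc']
      show φ c' ∈ _
      rw [hcb, map_mul]
      exact Ideal.mul_mem_left _ _ (Ideal.mem_span_singleton_self _)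

/-- the sum of two relative divisors on a smooth curve, degrees -/
theorem isFinLocFreeOfDeg_mul (f : X ⟶ S) [SmoothOfRelativeDimension 1 f] {I J : X.IdealSheafData}
    {d e : ℕ} (hI : Mor2.IsFinLocFreeOfDeg d (I.subschemeι ≫ f))
    (hJ : Mor2.IsFinLocFreeOfDeg e (J.subschemeι ≫ f)) :
    Mor2.IsFinLocFreeOfDeg (d + e) ((I * J).subschemeι ≫ f) :=
  ⟨(isFinLocFree_mul f hI.1 hJ.1).1, fun y => by
    rw [(isFinLocFree_mul f hI.1 hJ.1).2 y, hI.2 y, hJ.2 y]⟩

end Groth.CurveDiv
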